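import Groth.Agent.L19.AffSpec.Special
import Groth.Agent.L04.SupportSh.Components
import Mathlib.AlgebraicGeometry.Limits

/-!
# Affineness from the identity component
-/

set_option autoImplicit false
set_option linter.style.haveILetI false
set_option linter.unusedSectionVars false
set_option backward.isDefEq.respectTransparency.types false

universe u

open CategoryTheory CategoryTheory.Limits MonoidalCategory CartesianMonoidalCategory MonObj GrpObj AlgebraicGeometry
open TopologicalSpace IsLocalRing

noncomputable section

namespace Groth.L19.AffSpec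

variable {k : Type u} [Field k] [IsAlgClosed k]

/-- A group over an algebraically closed field is affine as soon as its smooth connected closed subgroups are. -/
theorem isAffine_of_subgroups (G : Over (Spec (CommRingCat.of k))) [GrpObj G] [LocallyOfFiniteType G.hom]
    [QuasiCompact G.hom]
    (h : ∀ (R : Over (Spec (CommRingCat.of k))) [GrpObj R] [Smooth R.hom] [ConnectedSpace R.left] (j : R ⟶ G)
      [IsMonHom j] [IsClosedImmersion j.left], IsAffine R.left) :
    IsAffine G.left := by
  obtain ⟨C, gC, c, hc, hcc, hcf, hrange, hgi, hcomp⟩ := Groth.Agent.S7520.result k G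
  haveI : LocallyOfFiniteType C.hom := by rw [← Over.w c]; infer_instance
  haveI : IsLocallyNoetherian G.left := LocallyOfFiniteType.isLocallyNoetherian G.hom
  haveI : IsOpenImmersion c.left := IsOpenImmersion.of_flat_of_mono c.left
  obtain ⟨S, gS, s, hs, hsc, hsm, hsurj, -⟩ := Groth.L08.Borel.exists_red_subgroup C
  haveI : ConnectedSpace C.left := Groth.L19.SpecSub.connected_of_geomIrred C
  let es : S.left ≃ₜ C.left :=
    (s.left.isEmbedding.toHomeomorph).trans
      ((Homeomorph.setCongr (Set.range_eq_univ.2 hsurj.surj)).trans (Homeomorph.Set.univ _))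
  haveI : ConnectedSpace S.left := es.symm.surjective.connectedSpace es.symm.continuous
  haveI : IsClosedImmersion (s ≫ c).left := by rw [Over.comp_left]; infer_instance
  haveI : IsAffine S.left := h S (s ≫ c)
  haveI : IsAffine C.left := Groth.L20.ThickAffine.isAffine_of_surjective s.left hsurj.surj
  let o := η[G].left (closedPoint k)
  let U : G.left → G.left.Opens := fun x =>
    ⟨connectedComponent x, Groth.L04.SupportSh.isOpen_connectedComponent x⟩
  have hU0 : IsAffineOpen (U o) := by
    have := isAffineOpen_opensRange c.left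
    rwa [show c.left.opensRange = U o from Opens.ext hrange] at this
  let T : (𝟙_ (Over (Spec (CommRingCat.of k))) ⟶ G) → (G ⟶ G) := fun a => (toUnit G ≫ a) * 𝟙 G
  have hTT : ∀ a b, T a ≫ T b = (toUnit G ≫ b) * ((toUnit G ≫ a) * 𝟙 G) := fun a b => by
    show _ ≫ ((toUnit G ≫ b) * 𝟙 G) = _
    rw [MonObj.comp_mul, ← Category.assoc, toUnit_unique (T a ≫ toUnit G) (toUnit G), Category.comp_id]
  haveI hTiso : ∀ a, IsIso (T a) := fun a => by
    refine ⟨T a⁻¹, ?_, ?_⟩
    · rw [hTT, ← _root_.mul_assoc, GrpObj.comp_inv, inv_mul_cancel, _root_.one_mul]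
    · rw [hTT, ← _root_.mul_assoc, GrpObj.comp_inv, mul_inv_cancel, _root_.one_mul]
  haveI : JacobsonSpace G.left := LocallyOfFiniteType.jacobsonSpace G.hom
  have hall : ∀ x, IsAffineOpen (U x) := fun x => by
    obtain ⟨p, hpU, hp⟩ := nonempty_inter_closedPoints (Z := (U x : Set G.left)) ⟨x, mem_connectedComponent⟩
      (U x).2.isLocallyClosed
    let q := (pointEquivClosedPoint G.hom).symm ⟨p, hp⟩
    let a : 𝟙_ (Over (Spec (CommRingCat.of k))) ⟶ G := Over.homMk q.1 q.2
    have hap : a.left (closedPoint k) = p :=
      congrArg Subtype.val ((pointEquivClosedPoint G.hom).apply_symm_apply ⟨p, hp⟩)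
    haveI : IsIso (T a).left := inferInstanceAs (IsIso ((Over.forget _).map (T a)))
    have h1 : (T a).left o = p := by
      have e : η[G] ≫ T a = a := by
        show η[G] ≫ ((toUnit G ≫ a) * 𝟙 G) = _
        rw [MonObj.comp_mul, ← Category.assoc, toUnit_unique (η[G] ≫ toUnit G) (𝟙 _), Category.id_comp,
          Category.comp_id, show (η[G] : 𝟙_ _ ⟶ G) = 1 from (by rw [Hom.one_def, toUnit_unique (toUnit (𝟙_ (Over (Spec (CommRingCat.of k))))) (𝟙 _), Category.id_comp]), _root_.mul_one]
      rw [← hap]
      exact congr(($e).left (closedPoint k))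
    have h2 : (T a).left ''ᵁ U o = U x := by
      apply Opens.ext
      show (T a).left '' connectedComponent o = connectedComponent x
      rw [connectedComponent_eq hpU, ← h1]
      exact (Scheme.homeoOfIso (asIso (T a).left)).image_connectedComponentIn (Set.mem_univ o) |> fun h => by
        simpa [connectedComponentIn_univ] using h
    exact h2 ▸ hU0.image_of_isOpenImmersion (T a).left
  haveI : CompactSpace G.left := QuasiCompact.compactSpace_of_compactSpace G.hom
  obtain ⟨t, ht⟩ := isCompact_univ.elim_finite_subcover (fun x => (U x : Set G.left)) (fun x => (U x).2)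
    (fun x _ => Set.mem_iUnion.2 ⟨x, mem_connectedComponent⟩)
  classical
  let t' := t.image U
  have hsup : (⨆ W ∈ (t' : Set G.left.Opens), W) = ⊤ := by
    refine top_unique fun x _ => ?_
    obtain ⟨y, hy, hxy⟩ := Set.mem_iUnion₂.1 (ht (Set.mem_univ x))
    exact Opens.mem_iSup.2 ⟨U y, Opens.mem_iSup.2 ⟨Finset.mem_coe.2 (Finset.mem_image_of_mem U hy), hxy⟩⟩
  have hdis : (t' : Set G.left.Opens).Pairwise (Function.onFun Disjoint fun W => W) := by
    intro A hA B hB hne
    obtain ⟨a, -, rfl⟩ := Finset.mem_image.1 hA
    obtain ⟨b, -, rfl⟩ := Finset.mem_image.1 hB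
    show Disjoint (U a) (U b)
    rw [disjoint_iff]
    refine bot_unique fun x hx => (hne ?_).elim
    exact Opens.ext ((connectedComponent_eq hx.1).trans (connectedComponent_eq hx.2).symm)
  have := IsAffineOpen.biSup_of_disjoint (U := fun W : G.left.Opens => W) t'.finite_toSet (fun W hW => by
    obtain ⟨a, -, rfl⟩ := Finset.mem_image.1 hW; exact hall a) hdis
  rw [hsup] at this
  haveI : IsAffine (⊤ : G.left.Opens).toScheme := this
  exact IsAffine.of_isIso G.left.topIso.inv

end Groth.L19.AffSpec
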