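import Groth.Agent.L19.AffSpec.Dv
import Groth.Agent.L01.NagataFiniteType
import Groth.Agent.L27.PuncNormal.Finite
import Mathlib.RingTheory.Polynomial.GaussLemma

/-!
# The residue field of a special component is algebraic over the common functions
-/

set_option autoImplicit false
set_option linter.style.haveILetI false
set_option backward.isDefEq.respectTransparency.types false
set_option linter.unusedSectionVars false
set_option synthInstance.maxHeartbeats 100000
set_option maxHeartbeats 1000000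

universe u

noncomputable section

namespace Groth.L19.AffSpec

open IsLocalRing

/-- heights are preserved by finite extensions of universally catenary domains -/
theorem height_under_eq {B T : Type u} [CommRing B] [IsDomain B] [IsNoetherianRing B] [CommRing T] [IsDomain T]
    [Algebra B T] [Module.Finite B T] [FaithfulSMul B T] (hB : CAlg.IsUniversallyCatenary B) (P : Ideal T) [P.IsPrime] :
    P.height = (P.under B).height := by
  have h := (Groth.L22.DimFormula.dim_formula (R := B) (S := T) (P.under B) P).2 hB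
  rw [trdeg_eq_zero, trdeg_eq_zero, add_zero, add_zero] at h
  exact_mod_cast h

variable {V : Type u} [CommRing V] [IsDomain V] {L : Type u} [Field L] [Algebra V L]

/-- the facts needed about the normalisation of one of the algebras -/
theorem normalisation_props (hV : CAlg.IsNagata V) (hVc : CAlg.IsUniversallyCatenary V)
    (B : Subalgebra V L) (hB : B.FG) (hfrac : IsFractionRing B L) :
    IsNoetherianRing B ∧ IsNoetherianRing (integralClosure B L) ∧ IsIntegrallyClosed (integralClosure B L) ∧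
      IsFractionRing (integralClosure B L) L ∧
      ∀ (P : Ideal (integralClosure B L)) [P.IsPrime], P.height = (P.under B).height := by
  haveI := hfrac
  haveI : IsNoetherianRing V := hV.1
  haveI : Algebra.FiniteType V B := (Subalgebra.fg_iff_finiteType B).1 hB
  haveI : IsNoetherianRing B := Algebra.FiniteType.isNoetherianRing V B
  have hN : CAlg.IsN2 B := Groth.L01.Nagata.isN2_of_isNagata
    (Groth.L01.Nagata.isNagata_of_finiteType (R := V) hV)
  letI := FractionRing.liftAlgebra B L
  haveI := FractionRing.isScalarTower_liftAlgebra B L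
  haveI : FiniteDimensional (FractionRing B) L := Module.Finite.of_surjective
    (Algebra.linearMap (FractionRing B) L) fun x => by
      obtain ⟨a, s, hs, rfl⟩ := IsFractionRing.div_surjective (A := B) x
      exact ⟨algebraMap B (FractionRing B) a / algebraMap B (FractionRing B) s, by
        rw [Algebra.linearMap_apply, map_div₀, ← IsScalarTower.algebraMap_apply, ← IsScalarTower.algebraMap_apply]⟩
  haveI : Module.Finite B (integralClosure B L) := hN L inferInstance
  haveI : IsFractionRing (integralClosure B L) L :=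
    integralClosure.isFractionRing_of_finite_extension (FractionRing B) L
  refine ⟨inferInstance, IsNoetherianRing.of_finite B _, integralClosure.isIntegrallyClosedOfFiniteExtension (FractionRing B),
    inferInstance, fun P _ => ?_⟩
  exact height_under_eq (Groth.L22.DimFormula.isUniversallyCatenary_of_finiteType (R := V) hVc) P

variable (O : Subring L) {κ : Type u} [Field κ] (r : O →+* κ)

/-- The data of one chart: the algebra, inside the common local ring, with its prime of the special component. -/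
structure IsChart (A : Subring L) (π : V) (B : Subalgebra V L) : Prop where
  fg : B.FG
  le : ∀ b ∈ B, b ∈ O
  loc : ∀ x : O, ∃ b ∈ B, ∃ s, ∃ hs : s ∈ B, r ⟨s, le s hs⟩ ≠ 0 ∧ (x : L) * s = b
  rad : ∀ b, ∀ hb : b ∈ B, r ⟨b, le b hb⟩ = 0 → ∃ n : ℕ, ∃ c ∈ B, b ^ n = algebraMap V L π * c
  special : r ⟨algebraMap V L π, le _ (B.algebraMap_mem π)⟩ = 0
  pow : ∀ a ∈ A, ∃ m : ℕ, algebraMap V L π ^ m * a ∈ B

variable {O r} {A : Subring L} {π : V} {B : Subalgebra V L}

/-- the map to the residue field on a chart -/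
def IsChart.res (h : IsChart O r A π B) : B →+* κ :=
  r.comp ((B.toSubring.subtype).codRestrict O fun b => h.le b b.2)

theorem IsChart.isFractionRing (h : IsChart O r A π B) (hπ : algebraMap V L π ≠ 0)
    (hA : ∀ x : L, ∃ c ∈ A, ∃ d ∈ A, d ≠ 0 ∧ x * d = c) : IsFractionRing B L := by
  refine IsFractionRing.of_field B L fun x => ?_
  obtain ⟨c, hc, d, hd, hd0, hx⟩ := hA x
  obtain ⟨m, hm⟩ := h.pow c hc
  obtain ⟨n, hn⟩ := h.pow d hd
  refine ⟨⟨_, B.mul_mem (B.pow_mem (B.algebraMap_mem π) n) hm⟩,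
    ⟨_, B.mul_mem (B.pow_mem (B.algebraMap_mem π) m) hn⟩, ?_⟩
  show _ = algebraMap V L π ^ n * (algebraMap V L π ^ m * c) / (algebraMap V L π ^ m * (algebraMap V L π ^ n * d))
  have h1 := pow_ne_zero n hπ
  have h2 := pow_ne_zero m hπ
  rw [← hx]; field_simp

/-- height one primes of the normalisation over the uniformiser lie over the special prime -/
theorem IsChart.prime_props (h : IsChart O r A π B) [IsNoetherianRing B]
    [IsNoetherianRing (integralClosure B L)] (hπ : algebraMap V L π ≠ 0)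
    (hht : ∀ (P : Ideal (integralClosure B L)) [P.IsPrime], P.height = (P.under B).height)
    (P : Ideal (integralClosure B L)) [hP : P.IsPrime] :
    (algebraMap V B π ∈ P.under B → P.height ≤ 1 → P.height = 1 ∧ ∀ b : B, b ∈ P.under B ↔ h.res b = 0) ∧
    (P ∈ (Ideal.span {algebraMap B (integralClosure B L) (algebraMap V B π)}).minimalPrimes →
      algebraMap V B π ∈ P.under B ∧ P.height ≤ 1) := by
  refine ⟨fun hπP hle => ?_, fun hmin => ⟨hmin.1.2 (Ideal.mem_span_singleton_self _),
    Ideal.height_le_one_of_isPrincipal_of_mem_minimalPrimes _ _ hmin⟩⟩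
  let q := RingHom.ker h.res
  haveI : q.IsPrime := RingHom.ker_isPrime h.res
  have hq : q ≤ P.under B := fun b hb => by
    obtain ⟨n, c, hc, e⟩ := h.rad b b.2 hb
    have e' : b ^ n = algebraMap V B π * ⟨c, hc⟩ := Subtype.ext e
    exact (Ideal.IsPrime.under B P).mem_of_pow_mem n (e' ▸ Ideal.mul_mem_right _ _ hπP)
  have hbot : (⊥ : Ideal B) < q := bot_lt_iff_ne_bot.2 fun hb => by
    have : algebraMap V B π ∈ q := h.special
    rw [hb, Ideal.mem_bot] at this
    exact hπ (congrArg Subtype.val this)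
  have h0 := Ideal.height_strict_mono_of_isPrime (I := ⊥) (J := q) hbot
  haveI := Ideal.IsPrime.under B P
  have h1 : q = P.under B := by
    rcases eq_or_lt_of_le hq with e | e
    · exact e
    exfalso
    have h2 := Ideal.height_strict_mono_of_isPrime (I := q) (J := P.under B) e
    rw [← hht] at h2
    have h3 := lt_of_lt_of_le h2 hle
    rw [Order.lt_one_iff] at h3
    exact not_lt_zero (h3 ▸ h0)
  refine ⟨le_antisymm hle ?_, fun b => h1 ▸ Iff.rfl⟩
  rw [hht, ← h1]
  exact Order.one_le_iff_pos.2 (lt_of_le_of_lt bot_le h0)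

/-- the local ring of a prime of a normal domain inside the fraction field, with its residue map -/
theorem exists_loc {T : Type u} [CommRing T] [IsDomain T] [IsIntegrallyClosed T] [Algebra T L] [IsFractionRing T L]
    (P : Ideal T) [P.IsPrime] :
    ∃ (S : Subring L) (K : Type u) (_ : Field K) (res : S →+* K),
      (∀ x : L, x ∈ S ↔ ∃ s ∉ P, ∃ b, algebraMap T L s * x = algebraMap T L b) ∧
      (∀ x : S, res x = 0 ↔ ∃ s ∉ P, ∃ b ∈ P, algebraMap T L s * x = algebraMap T L b) ∧
      (∀ x : L, S.subtype.IsIntegralElem x → x ∈ S) ∧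
      (∀ x : S, res x ≠ 0 → (x : L)⁻¹ ∈ S) := by
  let R := Localization.AtPrime P
  letI : Algebra R L := (IsLocalization.lift (M := P.primeCompl) (g := algebraMap T L)
    fun s => isUnit_iff_ne_zero.2 ((map_ne_zero_iff _ (IsFractionRing.injective T L)).2
      fun h => s.2 (h ▸ P.zero_mem))).toAlgebra
  haveI : IsScalarTower T R L := IsScalarTower.of_algebraMap_eq fun r => (IsLocalization.lift_eq _ r).symm
  haveI : IsFractionRing R L := IsFractionRing.isFractionRing_of_isDomain_of_isLocalization P.primeCompl R L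
  haveI : IsDomain R := IsLocalization.isDomain_of_le_nonZeroDivisors R P.primeCompl_le_nonZeroDivisors
  haveI : IsIntegrallyClosed R := isIntegrallyClosed_of_isLocalization R P.primeCompl P.primeCompl_le_nonZeroDivisors
  have hinj : Function.Injective (algebraMap R L) := IsFractionRing.injective R L
  let S := (algebraMap R L).range
  let e : R ≃+* S := RingEquiv.ofBijective (algebraMap R L).rangeRestrict
    ⟨fun a b h => hinj (congrArg Subtype.val h), (algebraMap R L).rangeRestrict_surjective⟩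
  have hkey : ∀ (b : T) (s : T) (hs : s ∉ P) (x : L), algebraMap T L s * x = algebraMap T L b →
      algebraMap R L (IsLocalization.mk' R b (⟨s, hs⟩ : P.primeCompl)) = x := fun b s hs x h => by
    apply mul_left_cancel₀ (show algebraMap T L s ≠ 0 from
      (map_ne_zero_iff _ (IsFractionRing.injective T L)).2 fun h => hs (h ▸ P.zero_mem))
    rw [h, IsScalarTower.algebraMap_apply T R L s, ← map_mul,
      IsLocalization.mk'_spec' (M := P.primeCompl) R b ⟨s, hs⟩, ← IsScalarTower.algebraMap_apply]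
  have hmk : ∀ (b : T) (s : P.primeCompl), algebraMap T L s * algebraMap R L (IsLocalization.mk' R b s) =
      algebraMap T L b := fun b s => by
    rw [IsScalarTower.algebraMap_apply T R L, ← map_mul, IsLocalization.mk'_spec', ← IsScalarTower.algebraMap_apply]
  have he : ∀ x : S, algebraMap R L (e.symm x) = x := fun x =>
    congrArg Subtype.val (e.apply_symm_apply x)
  refine ⟨S, ResidueField R, inferInstance, (residue R).comp e.symm.toRingHom, fun x => ⟨?_, ?_⟩, fun x => ⟨?_, ?_⟩,
    fun x hx => ?_, fun x hx => ?_⟩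
  · rintro ⟨t, rfl⟩
    obtain ⟨b, s, rfl⟩ := IsLocalization.exists_mk'_eq P.primeCompl t
    exact ⟨s, s.2, b, hmk b s⟩
  · rintro ⟨s, hs, b, hb⟩
    exact ⟨_, hkey b s hs x hb⟩
  · intro h
    rw [RingHom.comp_apply, residue_eq_zero_iff] at h
    obtain ⟨b, s, hbs⟩ := IsLocalization.exists_mk'_eq P.primeCompl (e.symm x)
    refine ⟨s, s.2, b, ?_, ?_⟩
    · exact (IsLocalization.AtPrime.mk'_mem_maximal_iff R P b s).1 (hbs ▸ h)
    · rw [← he x, ← hbs]; exact hmk b s
  · rintro ⟨s, hs, b, hbP, hb⟩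
    rw [RingHom.comp_apply, residue_eq_zero_iff]
    have : e.symm x = IsLocalization.mk' R b (⟨s, hs⟩ : P.primeCompl) := hinj ((he x).trans (hkey b s hs x hb).symm)
    exact this ▸ (IsLocalization.AtPrime.mk'_mem_maximal_iff R P b ⟨s, hs⟩).2 hbP
  · obtain ⟨p, hp, hp0⟩ := hx
    refine (IsIntegrallyClosed.isIntegral_iff (R := R) (K := L)).1 ⟨p.map e.symm.toRingHom, hp.map _, ?_⟩
    rw [Polynomial.eval₂_map, show (algebraMap R L).comp e.symm.toRingHom = S.subtype from RingHom.ext he]
    exact hp0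
  · rw [RingHom.comp_apply, residue_ne_zero_iff_isUnit] at hx
    obtain ⟨u, hu⟩ := hx
    exact ⟨↑u⁻¹, by rw [map_units_inv, hu]; exact congrArg (·⁻¹) (he x)⟩

/-- the common local ring lies in the local ring of a prime over the special prime -/
theorem IsChart.le_loc (h : IsChart O r A π B) {T : Type u} [CommRing T] [Algebra B T] [Algebra T L]
    [IsScalarTower B T L] (P : Ideal T) (hP : ∀ b : B, b ∈ P.under B ↔ h.res b = 0) (x : O) :
    ∃ s ∉ P, ∃ b, algebraMap T L s * x = algebraMap T L b ∧ (b ∈ P ↔ r x = 0) := by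
  obtain ⟨b, hb, s, hs, hrs, e⟩ := h.loc x
  refine ⟨algebraMap B T ⟨s, hs⟩, fun hm => hrs ((hP _).1 hm), algebraMap B T ⟨b, hb⟩, ?_, ?_⟩
  · rw [← IsScalarTower.algebraMap_apply, ← IsScalarTower.algebraMap_apply]
    exact (mul_comm _ _).trans e
  · refine (hP _).trans ?_
    show r ⟨b, _⟩ = 0 ↔ _
    rw [show (⟨b, h.le b hb⟩ : O) = x * ⟨s, h.le s hs⟩ from Subtype.ext e.symm, map_mul, mul_eq_zero,
      or_iff_left hrs]

/-- An element with poles only along the uniformiser which is integral at all the valuations is integral over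
every chart. -/
theorem IsChart.isIntegralElem {B₀ : Subalgebra V L} (h₀ : IsChart O r A π B₀) (h : IsChart O r A π B)
    (hπ : algebraMap V L π ≠ 0) [IsFractionRing (integralClosure B L) L] [IsFractionRing (integralClosure B₀ L) L]
    [IsNoetherianRing B] [IsNoetherianRing (integralClosure B L)] [IsIntegrallyClosed (integralClosure B L)]
    [IsNoetherianRing B₀] [IsNoetherianRing (integralClosure B₀ L)]
    (hht : ∀ (P : Ideal (integralClosure B L)) [P.IsPrime], P.height = (P.under B).height)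
    (hht₀ : ∀ (P : Ideal (integralClosure B₀ L)) [P.IsPrime], P.height = (P.under B₀).height)
    {a : L} (ha : a ∈ A)
    (hm : ∀ P ∈ (Ideal.span {algebraMap B₀ (integralClosure B₀ L) (algebraMap V B₀ π)}).minimalPrimes,
      ∃ s ∉ P, ∃ b, algebraMap (integralClosure B₀ L) L s * a = algebraMap (integralClosure B₀ L) L b) :
    B.toSubring.subtype.IsIntegralElem a := by
  suffices a ∈ (algebraMap (integralClosure B L) L).range by
    obtain ⟨t, rfl⟩ := this; exact t.2
  refine Groth.L27.PuncNormal.mem_range_of_forall_height_le_one L a fun P hP hle => ?_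
  by_cases hπP : algebraMap V B π ∈ P.under B
  · obtain ⟨-, hker⟩ := (h.prime_props hπ hht P).1 hπP hle
    obtain ⟨S, K, _, res, hmem, hres, hint, hinv⟩ := exists_loc P (L := L)
    have hO : ∀ o : O, ∃ ho : (o : L) ∈ S, res ⟨o, ho⟩ = 0 ↔ r o = 0 := fun o => by
      obtain ⟨s, hs, b, hb, hbP⟩ := h.le_loc P hker o
      refine ⟨(hmem o).2 ⟨s, hs, b, hb⟩, (hres _).trans ⟨fun ⟨s', hs', b', hb', e'⟩ => hbP.1 ?_,
        fun ho => ⟨s, hs, b, hbP.2 ho, hb⟩⟩⟩
      have e : b * s' = b' * s := IsFractionRing.injective (integralClosure B L) L (by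
        rw [map_mul, map_mul, ← hb, ← e']
        show _ * (o : L) * _ = _ * (o : L) * _
        ring)
      exact (hP.mem_or_mem (e ▸ Ideal.mul_mem_right s P hb')).resolve_right hs'
    let f : B₀ →+* S := B₀.toSubring.subtype.codRestrict S fun b => (hO ⟨b, h₀.le b b.2⟩).1
    have hT : ∀ t : integralClosure B₀ L, (t : L) ∈ S := fun t => hint t <| by
      obtain ⟨p, hp, hp0⟩ := t.2
      exact ⟨p.map f, hp.map f, by rw [Polynomial.eval₂_map]; exact hp0⟩
    let g : integralClosure B₀ L →+* S := ((integralClosure B₀ L).toSubring.subtype).codRestrict S hT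
    let Q := RingHom.ker (res.comp g)
    haveI : Q.IsPrime := RingHom.ker_isPrime _
    have hQ : ∀ b : B₀, b ∈ Q.under B₀ ↔ h₀.res b = 0 := fun b => (hO ⟨b, h₀.le b b.2⟩).2
    obtain ⟨Q', hQ', hQQ⟩ := Ideal.exists_minimalPrimes_le
      ((Ideal.span_singleton_le_iff_mem Q).2 ((hQ (algebraMap V B₀ π)).2 h₀.special))
    haveI : Q'.IsPrime := hQ'.1.1
    obtain rfl : Q' = Q := by
      obtain ⟨h1, h2⟩ := (h₀.prime_props hπ hht₀ Q').2 hQ'
      have h3 : Q'.under B₀ = Q.under B₀ :=
        Ideal.ext fun b => ((((h₀.prime_props hπ hht₀ Q').1 h1 h2).2) b).trans (hQ b).symm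
      rcases eq_or_lt_of_le hQQ with e | e
      · exact e
      have h4 := Ideal.height_strict_mono_of_isPrime (I := Q') (J := Q) e
      rw [hht₀ Q', hht₀ Q, h3] at h4
      exact absurd h4 (lt_irrefl _)
    obtain ⟨s, hs, b, hb⟩ := hm _ hQ'
    have hs' : res (g s) ≠ 0 := hs
    have ha' : a = (g b : L) * ((g s : L))⁻¹ := by
      have hs0 : (g s : L) ≠ 0 := fun e => hs' (by rw [show g s = 0 from Subtype.ext e, map_zero])
      rw [eq_mul_inv_iff_mul_eq₀ hs0, mul_comm]
      exact hb
    exact (hmem a).1 (ha' ▸ S.mul_mem (g b).2 (hinv _ hs'))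
  · obtain ⟨m, hm⟩ := h.pow a ha
    exact ⟨algebraMap B (integralClosure B L) (algebraMap V B π ^ m),
      fun hP' => hπP ((Ideal.IsPrime.under B P).mem_of_pow_mem m hP'),
      algebraMap B (integralClosure B L) ⟨_, hm⟩, by
        show algebraMap B L (algebraMap V B π ^ m) * a = _
        rw [map_pow]; rfl⟩

/-- **The core.** -/
theorem algebraic_over_common (hV : CAlg.IsNagata V) (hVc : CAlg.IsUniversallyCatenary V)
    (hr : Function.Surjective r) (hπ : algebraMap V L π ≠ 0) (hπA : algebraMap V L π ∈ A)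
    (hπA' : (algebraMap V L π)⁻¹ ∈ A) (hA : ∀ x : L, ∃ c ∈ A, ∃ d ∈ A, d ≠ 0 ∧ x * d = c)
    {ι : Type u} [Nonempty ι] (B : ι → Subalgebra V L) (hB : ∀ i, IsChart O r A π (B i)) (x : κ) :
    IsAlgebraic (Subfield.closure {y : κ | ∀ i, (hB i).res.IsIntegralElem y}) x := by
  classical
  obtain ⟨i₀⟩ := ‹Nonempty ι›
  have hfr : ∀ i, IsFractionRing (B i) L := fun i => (hB i).isFractionRing hπ hA
  have H := fun i => normalisation_props hV hVc (B i) (hB i).fg (hfr i)
  haveI := fun i => (H i).1
  haveI := fun i => (H i).2.1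
  haveI := fun i => (H i).2.2.1
  haveI := fun i => (H i).2.2.2.1
  let T := integralClosure (B i₀) L
  let π₀ : T := algebraMap (B i₀) T (algebraMap V (B i₀) π)
  let J := {P : Ideal T // P ∈ (Ideal.span {π₀}).minimalPrimes}
  haveI : Finite J := (Ideal.finite_minimalPrimes_of_isNoetherianRing T _).to_subtype
  haveI hPp : ∀ P : J, P.1.IsPrime := fun P => P.2.1.1
  haveI : Algebra.IsIntegral (B i₀) T := ⟨fun x => integralClosure.isIntegral x⟩
  have hunit : ¬ IsUnit π₀ := fun hu => by
    haveI : (RingHom.ker (hB i₀).res).IsPrime := RingHom.ker_isPrime _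
    obtain ⟨Q, hQm, hQ⟩ := Ideal.exists_ideal_over_prime_of_isIntegral_of_isDomain (S := T)
      (RingHom.ker (hB i₀).res) (fun b hb => by
        have e : b = 0 := Subtype.ext (show (b : L) = 0 from congrArg Subtype.val (RingHom.mem_ker.1 hb))
        rw [e]; exact Ideal.zero_mem _)
    refine hQm.ne_top (Ideal.eq_top_of_isUnit_mem _ ?_ hu)
    show algebraMap V (B i₀) π ∈ Q.comap (algebraMap (B i₀) T)
    rw [hQ]; exact (hB i₀).special
  haveI : Nonempty J := by
    obtain ⟨P, hP⟩ := Ideal.nonempty_minimalPrimes (I := Ideal.span {π₀})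
      (by rw [Ne, Ideal.span_singleton_eq_top]; exact hunit)
    exact ⟨⟨P, hP⟩⟩
  have hJ : ∀ P : J, P.1.height = 1 ∧ (∀ b : B i₀, b ∈ P.1.under (B i₀) ↔ (hB i₀).res b = 0) := fun P => by
    obtain ⟨h1, h2⟩ := ((hB i₀).prime_props hπ (H i₀).2.2.2.2 P.1).2 P.2
    exact ((hB i₀).prime_props hπ (H i₀).2.2.2.2 P.1).1 h1 h2
  choose w hw using fun P : J => exists_zval (L := L) P.1 (hJ P).1
  have hwπ : ∀ P, 0 < (w P).v (algebraMap V L π) := fun P =>
    (hw P _ hπ).2.2 ⟨1, P.1.ne_top_iff_one.1 (hPp P).ne_top, π₀, P.2.1.2 (Ideal.mem_span_singleton_self _), by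
      rw [map_one, one_mul]; rfl⟩
  have htoint : ∀ a ∈ A, (∀ P, (w P).Mem a) → ∀ i, (B i).toSubring.subtype.IsIntegralElem a := fun a ha hm i =>
    (hB i₀).isIntegralElem (hB i) hπ (H i).2.2.2.2 (H i₀).2.2.2.2 ha fun P hP => by
      by_cases ha0 : a = 0
      · exact ⟨1, P.ne_top_iff_one.1 hP.1.1.ne_top, 0, by rw [ha0, map_zero, mul_zero]⟩
      exact (hw ⟨P, hP⟩ a ha0).1.1 ((hm ⟨P, hP⟩).resolve_left ha0)
  obtain ⟨j, hj⟩ := exists_residue_fraction w A hπ hπA hπA' hwπ hA
  obtain ⟨S, K, _, res, hmem, hres, -, hinv⟩ := exists_loc j.1 (L := L)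
  have hO : ∀ o : O, ∃ ho : (o : L) ∈ S, r o = 0 → res ⟨o, ho⟩ = 0 := fun o => by
    obtain ⟨s, hs, b, hb, hbP⟩ := (hB i₀).le_loc j.1 (hJ j).2 o
    exact ⟨(hmem o).2 ⟨s, hs, b, hb⟩, fun ho => (hres _).2 ⟨s, hs, b, hbP.2 ho, hb⟩⟩
  let φ : O →+* S := O.subtype.codRestrict S fun o => (hO o).1
  let ψ : κ →+* K := r.liftOfSurjective hr ⟨res.comp φ, fun o ho => (hO o).2 ho⟩
  have hψ : ∀ o, ψ (r o) = res (φ o) := RingHom.liftOfSurjective_comp_apply r hr _
  let F₀ := Subfield.closure {y : κ | ∀ i, (hB i).res.IsIntegralElem y}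
  letI : Algebra κ K := ψ.toAlgebra
  have hge : ∀ y : L, y ∈ S → y ≠ 0 → 0 ≤ (w j).v y := fun y hy hy0 => (hw j y hy0).1.2 ((hmem y).1 hy)
  have halg : ∀ t : S, (t : L) ∈ A → (∀ P, (w P).Mem t) → IsIntegral F₀ (res t) := by
    intro t ha hm
    let f : ∀ i, B i →+* S := fun i => φ.comp ((B i).toSubring.subtype.codRestrict O fun b => (hB i).le b b.2)
    have hcoef : ∀ i, (ψ.comp (hB i).res).IsIntegralElem (res t) := fun i => by
      obtain ⟨p, hp, hp0⟩ := htoint t ha hm i
      refine ⟨p, hp, ?_⟩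
      have h0 : Polynomial.eval₂ (f i) t p = 0 := Subtype.ext (by
        rw [ZeroMemClass.coe_zero, ← hp0]
        exact Polynomial.hom_eval₂ p (f i) S.subtype t)
      rw [show ψ.comp (hB i).res = res.comp (f i) from RingHom.ext fun b => hψ _, ← Polynomial.hom_eval₂,
        h0, map_zero]
    have hint : IsIntegral κ (res t) := by
      obtain ⟨p, hp, hp0⟩ := hcoef i₀
      exact ⟨p.map (hB i₀).res, hp.map _, by rw [Polynomial.eval₂_map]; exact hp0⟩
    have hmem : ∀ n, (minpoly κ (res t)).coeff n ∈ F₀ := fun n => Subfield.subset_closure fun i => by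
      obtain ⟨p, hp, hp0⟩ := hcoef i
      letI : Algebra (B i) κ := (hB i).res.toAlgebra
      have hd : minpoly κ (res t) ∣ p.map (algebraMap (B i) κ) := minpoly.dvd κ _ <| by
        rw [Polynomial.aeval_def, Polynomial.eval₂_map]; exact hp0
      obtain ⟨c, hc⟩ := (Polynomial.lifts_iff_coeff_lifts _).1
        (integralClosure.mem_lifts_of_monic_of_dvd_map κ hp (minpoly.monic hint) hd) n
      exact hc ▸ c.2
    obtain ⟨q, hq, -, hqm⟩ := Polynomial.lifts_and_natDegree_eq_and_monic
      ((Polynomial.lifts_iff_coeff_lifts (f := F₀.subtype) _).2 fun n => ⟨⟨_, hmem n⟩, rfl⟩) (minpoly.monic hint)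
    refine ⟨q, hqm, ?_⟩
    rw [show algebraMap F₀ K = ψ.comp F₀.subtype from rfl, ← Polynomial.eval₂_map, hq]
    exact minpoly.aeval κ (res t)
  obtain ⟨o, rfl⟩ := hr x
  by_cases ho : r o = 0
  · rw [ho]; exact isAlgebraic_zero
  have ho0 : (o : L) ≠ 0 := fun h => ho (by rw [show o = 0 from Subtype.ext h, map_zero])
  have hres0 : res (φ o) ≠ 0 := fun h => ho (ψ.injective (by rw [hψ, h, map_zero]))
  have hov : (w j).v (o : L) = 0 := by
    have h3 := hge _ (φ o).2 ho0
    have h4 := hge _ (hinv _ hres0) (inv_ne_zero ho0)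
    rw [show ((φ o : S) : L) = o from rfl] at h3 h4
    rw [(w j).inv ho0] at h4
    omega
  obtain ⟨c, hc, d, hd, hd0, hdv, hcm, hdm, he⟩ := hj o ho0 hov
  have hS : ∀ y, (w j).Mem y → y ∈ S := fun y hy => by
    by_cases hy0 : y = 0
    · exact hy0 ▸ S.zero_mem
    exact (hmem y).2 ((hw j y hy0).1.1 (hy.resolve_left hy0))
  have hd0' : res ⟨d, hS d (hdm j)⟩ ≠ 0 := fun h => by
    have h5 : 0 < (w j).v d := (hw j d hd0).2.2 ((hres ⟨d, hS d (hdm j)⟩).1 h)
    omega
  have e : ψ (r o) = res ⟨c, hS c (hcm j)⟩ * (res ⟨d, hS d (hdm j)⟩)⁻¹ := by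
    rw [hψ, eq_mul_inv_iff_mul_eq₀ hd0', ← map_mul]
    exact congrArg res (Subtype.ext he)
  have hi : IsIntegral F₀ (algebraMap κ K (r o)) := by
    show IsIntegral F₀ (ψ (r o))
    rw [e]
    exact (halg ⟨c, hS c (hcm j)⟩ hc hcm).mul (halg ⟨d, hS d (hdm j)⟩ hd hdm).inv
  have hi' : IsIntegral F₀ (r o) := (isIntegral_algebraMap_iff (R := F₀) (A := κ) (B := K) ψ.injective).1 hi
  exact hi'.isAlgebraic

end Groth.L19.AffSpec
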