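import Groth.Agent.L19.AffSpec.Geom
import Groth.Agent.L08.AffHull.Crit
import Mathlib.AlgebraicGeometry.AlgClosed.Basic
import Mathlib.FieldTheory.IntermediateField.Adjoin.Basic
import Mathlib.FieldTheory.Minpoly.Field
import Mathlib.Topology.Separation.Connected

/-!
# A group whose rational functions are algebraic over its regular functions is affine
-/

set_option autoImplicit false
set_option linter.style.haveILetI false
set_option linter.unusedSectionVars false
set_option backward.isDefEq.respectTransparency.types false

universe u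

open CategoryTheory CategoryTheory.Limits MonoidalCategory CartesianMonoidalCategory MonObj GrpObj AlgebraicGeometry
open Groth.L08.AffHull

noncomputable section

namespace Groth.L19.AffSpec

variable {k : Type u} [Field k]

/-- the function field is generated over the subfield of global functions by finitely many elements -/
theorem finiteDimensional_of_isAlgebraic {X : Scheme.{u}} [IsIntegral X] (f : X ⟶ Spec (CommRingCat.of k))
    [LocallyOfFiniteType f]
    (halg : ∀ x : X.functionField, IsAlgebraic (Subfield.closure (globalRange X : Set X.functionField)) x) :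
    FiniteDimensional (Subfield.closure (globalRange X : Set X.functionField)) X.functionField := by
  classical
  let F₀ := Subfield.closure (globalRange X : Set X.functionField)
  obtain ⟨_, ⟨U, hU, rfl⟩, hgen, -⟩ :=
    X.isBasis_affineOpens.exists_subset_of_mem_open (Set.mem_univ (genericPoint X)) isOpen_univ
  haveI : Nonempty U := ⟨⟨genericPoint X, hgen⟩⟩
  haveI := functionField_isFractionRing_of_isAffineOpen X U hU
  let φ : k →+* Γ(X, U) := ((f.appLE ⊤ U le_top).hom).comp (Scheme.ΓSpecIso (CommRingCat.of k)).inv.hom
  have hft : φ.FiniteType :=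
    (LocallyOfFiniteType.finiteType_appLE (f := f) (isAffineOpen_top _) hU le_top).comp
      (RingHom.FiniteType.of_surjective _
        (ConcreteCategory.bijective_of_isIso (Scheme.ΓSpecIso (CommRingCat.of k)).inv).2)
  letI : Algebra k Γ(X, U) := φ.toAlgebra
  haveI : Algebra.FiniteType k Γ(X, U) := hft
  obtain ⟨s, hs⟩ := (Algebra.FiniteType.out : (⊤ : Subalgebra k Γ(X, U)).FG)
  let ρ := algebraMap Γ(X, U) X.functionField
  let T : Set X.functionField := ρ '' s
  have hI : IntermediateField.adjoin F₀ T = ⊤ := by
    refine top_unique fun x _ => ?_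
    have hρ : ∀ a, ρ a ∈ IntermediateField.adjoin F₀ T := by
      intro a
      have ha : a ∈ Algebra.adjoin k (s : Set Γ(X, U)) := hs ▸ Algebra.mem_top
      induction ha using Algebra.adjoin_induction with
      | mem y hy => exact IntermediateField.subset_adjoin _ _ ⟨y, hy, rfl⟩
      | algebraMap c =>
        have hc : ρ (algebraMap k Γ(X, U) c) ∈ globalRange X := by
          refine ⟨f.appTop ((Scheme.ΓSpecIso (CommRingCat.of k)).inv c), ?_⟩
          refine (X.presheaf.germ_res_apply (homOfLE (le_top : U ≤ ⊤)) (genericPoint X) hgen _).symm.trans ?_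
          rfl
        exact IntermediateField.algebraMap_mem _ (⟨_, Subfield.subset_closure hc⟩ : F₀)
      | add y z _ _ hy hz => rw [map_add]; exact add_mem hy hz
      | mul y z _ _ hy hz => rw [map_mul]; exact mul_mem hy hz
    obtain ⟨a, b, -, rfl⟩ := IsFractionRing.div_surjective (A := Γ(X, U)) x
    exact div_mem (hρ a) (hρ b)
  haveI : Finite T := ((Finset.finite_toSet s).image ρ).to_subtype
  haveI := IntermediateField.finiteDimensional_adjoin (K := F₀) (S := T) fun x _ => (halg x).isIntegral
  exact Module.Finite.equiv ((IntermediateField.equivOfEq hI).trans IntermediateField.topEquiv).toLinearEquiv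

variable [IsAlgClosed k]

/-- **The criterion.** -/
theorem isAffine_of_isAlgebraic (C : Over (Spec (CommRingCat.of k))) [GrpObj C] [LocallyOfFiniteType C.hom]
    [QuasiCompact C.hom] [IsSeparated C.hom] [IsIntegral C.left]
    (halg : ∀ x : C.left.functionField,
      IsAlgebraic (Subfield.closure (globalRange C.left : Set C.left.functionField)) x) :
    IsAffine C.left := by
  classical
  haveI := finiteDimensional_of_isAlgebraic C.hom halg
  haveI := compactSpace (G := C)
  haveI := quasiSeparatedSpace (G := C)
  obtain ⟨K, gK, i, hi, hic, hO, hK⟩ := exists_antiAffinePart C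
  refine hK ?_
  haveI : LocallyOfFiniteType K.hom := by rw [← Over.w i]; infer_instance
  haveI : QuasiCompact K.hom := by rw [← Over.w i]; infer_instance
  have hiρ : i ≫ rho C = 1 := by
    exact hom_eq_one hO (i ≫ rho C)
  -- translations
  let T : (𝟙_ (Over (Spec (CommRingCat.of k))) ⟶ K) → (C ⟶ C) := fun a => (toUnit C ≫ a ≫ i) * 𝟙 C
  have hTρ : ∀ a, T a ≫ rho C = rho C := fun a => by
    show ((toUnit C ≫ a ≫ i) * 𝟙 C) ≫ rho C = _
    rw [MonObj.mul_comp, Category.assoc, Category.assoc, hiρ, MonObj.comp_one, MonObj.comp_one, _root_.one_mul,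
      Category.id_comp]
  have hTT : ∀ a b, T a ≫ T b = (toUnit C ≫ b ≫ i) * ((toUnit C ≫ a ≫ i) * 𝟙 C) := fun a b => by
    show _ ≫ ((toUnit C ≫ b ≫ i) * 𝟙 C) = _
    rw [MonObj.comp_mul, ← Category.assoc, toUnit_unique (T a ≫ toUnit C) (toUnit C), Category.comp_id]
  haveI hTiso : ∀ a, IsIso (T a) := fun a => by
    refine ⟨T a⁻¹, ?_, ?_⟩
    · rw [hTT, ← _root_.mul_assoc, GrpObj.inv_comp, GrpObj.comp_inv, inv_mul_cancel, _root_.one_mul]
    · rw [hTT, ← _root_.mul_assoc, GrpObj.inv_comp, GrpObj.comp_inv, mul_inv_cancel, _root_.one_mul]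
  have hTinj : Function.Injective T := fun a b h => by
    haveI : Mono i.left := inferInstance
    haveI : Mono i := Over.mono_of_mono_left i
    have h1 : toUnit C ≫ a ≫ i = toUnit C ≫ b ≫ i := mul_right_cancel (b := 𝟙 C) h
    have h2 := congrArg (η[C] ≫ ·) h1
    simp only [← Category.assoc, toUnit_unique (η[C] ≫ toUnit C) (𝟙 _), Category.id_comp] at h2
    exact (cancel_mono i).1 h2
  -- the action on the function field
  let ξ := genericPoint C.left
  haveI hTl : ∀ a, IsIso (T a).left := fun a => inferInstanceAs (IsIso ((Over.forget _).map (T a)))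
  have hgen : ∀ a, (T a).left ξ = ξ := fun a => by
    let h : C.left ≃ₜ C.left := Scheme.homeoOfIso (asIso (T a).left)
    have h1 := (genericPoint_spec C.left).image h.continuous
    rw [Set.image_univ, h.surjective.range_eq, closure_univ] at h1
    exact h1.eq (genericPoint_spec C.left)
  let σ : ∀ a, C.left.functionField →+* C.left.functionField := fun a =>
    (C.left.presheaf.stalkSpecializes (specializes_of_eq (hgen a)) ≫ (T a).left.stalkMap ξ).hom
  have happ : ∀ a, (T a).left.appTop = 𝟙 _ := fun a => by
    have h1 : (T a).left ≫ C.left.toSpecΓ = C.left.toSpecΓ := congrArg CommaMorphism.left (hTρ a)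
    rw [Scheme.toSpecΓ_naturality] at h1
    have h2 := congrArg Scheme.Hom.appTop h1
    rw [Scheme.Hom.comp_appTop, Scheme.toSpecΓ_appTop, Scheme.ΓSpecIso_naturality] at h2
    rwa [← cancel_epi (Scheme.ΓSpecIso Γ(C.left, ⊤)).hom, Category.comp_id]
  have hfix : ∀ a, ∀ x ∈ Subfield.closure (globalRange C.left : Set C.left.functionField), σ a x = x := by
    intro a x hx
    refine RingHom.eqOn_field_closure (f := σ a) (g := RingHom.id _) ?_ hx
    rintro _ ⟨g, rfl⟩
    show (T a).left.stalkMap ξ (C.left.presheaf.stalkSpecializes _ (C.left.presheaf.germ ⊤ ξ trivial g)) = _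
    rw [TopCat.Presheaf.germ_stalkSpecializes_apply]
    refine ((T a).left.germ_stalkMap_apply ⊤ ξ trivial g).trans ?_
    show C.left.presheaf.germ ((T a).left ⁻¹ᵁ ⊤) ξ _ ((T a).left.appTop g) = _
    rw [happ a]
    rfl
  let F₀ := Subfield.closure (globalRange C.left : Set C.left.functionField)
  let σ' : (𝟙_ (Over (Spec (CommRingCat.of k))) ⟶ K) → (C.left.functionField →ₐ[F₀] C.left.functionField) :=
    fun a => { σ a with commutes' := fun x => hfix a x x.2 }
  have hσ : Function.Injective σ' := fun a b h => hTinj <| by
    have hh : σ a = σ b := congrArg AlgHom.toRingHom h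
    have key : ∀ a, C.left.fromSpecStalk ξ ≫ (T a).left =
        Spec.map (CommRingCat.ofHom (σ a)) ≫ C.left.fromSpecStalk ξ := fun a => by
      show _ = Spec.map (C.left.presheaf.stalkSpecializes _ ≫ (T a).left.stalkMap ξ) ≫ _
      rw [Spec.map_comp, Category.assoc, Scheme.SpecMap_stalkSpecializes_fromSpecStalk,
        Scheme.SpecMap_stalkMap_fromSpecStalk]
    apply Over.OverMorphism.ext
    refine ext_of_fromSpecResidueField_eq _ _ C.hom {ξ} ?_ ?_ ((Over.w (T a)).trans (Over.w (T b)).symm)
    · rw [dense_iff_closure_eq]; exact genericPoint_spec C.left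
    · rintro x rfl
      rw [Scheme.fromSpecResidueField, Category.assoc, Category.assoc, key, key, hh]
  haveI : Finite (𝟙_ (Over (Spec (CommRingCat.of k))) ⟶ K) := Finite.of_injective σ' hσ
  haveI : JacobsonSpace K.left := LocallyOfFiniteType.jacobsonSpace K.hom
  have hfin : (closedPoints K.left).Finite := by
    refine Set.Finite.subset (Set.finite_range fun a : 𝟙_ (Over (Spec (CommRingCat.of k))) ⟶ K =>
      a.left (IsLocalRing.closedPoint k)) fun p hp => ?_
    let q := (pointEquivClosedPoint K.hom).symm ⟨p, hp⟩
    exact ⟨Over.homMk q.1 q.2, congrArg Subtype.val ((pointEquivClosedPoint K.hom).apply_symm_apply ⟨p, hp⟩)⟩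
  haveI : DiscreteTopology K.left := JacobsonSpace.discreteTopology hfin
  haveI := connectedSpace_of_antiAffine K hO
  haveI : Subsingleton K.left := PreconnectedSpace.trivial_of_discrete
  haveI : IsAffine K.left := isAffine_of_subsingleton
  haveI := hO
  exact (MorphismProperty.arrow_mk_iso_iff (MorphismProperty.isomorphisms Scheme)
    (arrowIsoSpecΓOfIsAffine K.hom)).2 (inferInstanceAs (IsIso (Spec.map K.hom.appTop)))

end Groth.L19.AffSpec
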