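import Groth.Agent.L01.NormalDomain
import Groth.Agent.L22.DimFormula
import Mathlib.RingTheory.Valuation.Discrete.IsDiscreteValuationRing
import Mathlib.RingTheory.Ideal.AssociatedPrime.Localization

/-!
# Integer valued valuations at height one primes and an approximation lemma
-/

set_option autoImplicit false
set_option linter.style.haveILetI false
set_option backward.isDefEq.respectTransparency.types false

universe u

noncomputable section

namespace Groth.L19.AffSpec

open IsLocalRing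

/-- a normalised valuation on the nonzero elements of a field -/
structure ZVal (L : Type u) [Field L] where
  v : L → ℤ
  mul : ∀ {x y : L}, x ≠ 0 → y ≠ 0 → v (x * y) = v x + v y

namespace ZVal

variable {L : Type u} [Field L] (w : ZVal L)

theorem one : w.v 1 = 0 := by
  have h := w.mul (one_ne_zero (α := L)) one_ne_zero
  rw [one_mul] at h
  omega

theorem pow {x : L} (hx : x ≠ 0) (n : ℕ) : w.v (x ^ n) = n * w.v x := by
  induction n with
  | zero => simp [w.one]
  | succ n ih => rw [pow_succ, w.mul (pow_ne_zero n hx) hx, ih]; push_cast; ring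

theorem inv {x : L} (hx : x ≠ 0) : w.v x⁻¹ = - w.v x := by
  have h := w.mul (inv_ne_zero hx) hx
  rw [inv_mul_cancel₀ hx, w.one] at h
  omega

theorem zpow {x : L} (hx : x ≠ 0) : ∀ n : ℤ, w.v (x ^ n) = n * w.v x
  | (n : ℕ) => by rw [zpow_natCast]; exact w.pow hx n
  | Int.negSucc n => by
    rw [zpow_negSucc, w.inv (pow_ne_zero _ hx), w.pow hx, Int.negSucc_eq]
    push_cast; ring

/-- membership in the valuation ring -/
def Mem (x : L) : Prop := x = 0 ∨ 0 ≤ w.v x

end ZVal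

/-- A residue of an element of valuation zero is a quotient of residues of elements of a subring which are
integral at all the given valuations. -/
theorem exists_residue_fraction {L : Type u} [Field L] {ι : Type u} [Finite ι] [Nonempty ι] (w : ι → ZVal L)
    (A : Subring L) {p : L} (hp : p ≠ 0) (hpA : p ∈ A) (hpA' : p⁻¹ ∈ A) (hpv : ∀ i, 0 < (w i).v p)
    (hA : ∀ x : L, ∃ c ∈ A, ∃ d ∈ A, d ≠ 0 ∧ x * d = c) :
    ∃ j, ∀ F : L, F ≠ 0 → (w j).v F = 0 → ∃ c ∈ A, ∃ d ∈ A, d ≠ 0 ∧ (w j).v d = 0 ∧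
      (∀ i, (w i).Mem c) ∧ (∀ i, (w i).Mem d) ∧ F * d = c := by
  classical
  haveI := Fintype.ofFinite ι
  let Good : Finset ι → Prop := fun J => ∀ x ∈ A, (∀ i ∈ J, (w i).Mem x) → ∀ i, (w i).Mem x
  obtain ⟨J, hJ, hmin⟩ := (Finset.univ.filter Good).exists_min_image Finset.card
    ⟨Finset.univ, Finset.mem_filter.2 ⟨Finset.mem_univ _, fun x _ h i => h i (Finset.mem_univ i)⟩⟩
  have hJ : Good J := (Finset.mem_filter.1 hJ).2
  obtain ⟨j, hj⟩ : J.Nonempty := by
    by_contra he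
    rw [Finset.not_nonempty_iff_eq_empty] at he
    let i := Classical.arbitrary ι
    rcases hJ p⁻¹ hpA' (by simp [he]) i with h | h
    · exact inv_ne_zero hp h
    · rw [(w i).inv hp] at h; linarith [hpv i]
  refine ⟨j, fun F hF hFv => ?_⟩
  obtain ⟨f, hfA, hfJ, hfn⟩ : ∃ f ∈ A, (∀ i ∈ J.erase j, (w i).Mem f) ∧ ¬ (w j).Mem f := by
    by_contra hn
    push Not at hn
    have hg : Good (J.erase j) := fun x hx hxJ => hJ x hx fun i hi => by
      by_cases hij : i = j
      · subst hij; exact hn x hx hxJ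
      · exact hxJ i (Finset.mem_erase.2 ⟨hij, hi⟩)
    have := hmin _ (Finset.mem_filter.2 ⟨Finset.mem_univ _, hg⟩)
    exact absurd this (not_le.2 (Finset.card_erase_lt_of_mem hj))
  obtain ⟨hf0, hfv⟩ : f ≠ 0 ∧ (w j).v f < 0 := by
    simp only [ZVal.Mem, not_or, not_le] at hfn; exact hfn
  obtain ⟨n, hn⟩ : ∃ n : ℕ, (w j).v f = -(n : ℤ) := ⟨(-(w j).v f).toNat, by omega⟩
  obtain ⟨e, he⟩ : ∃ e : ℕ, (w j).v p = (e : ℤ) + 1 := ⟨((w j).v p - 1).toNat, by linarith [Int.toNat_of_nonneg (show (0:ℤ) ≤ (w j).v p - 1 by linarith [hpv j])]⟩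
  let g := f ^ (e + 1) * p ^ n
  have hg0 : g ≠ 0 := mul_ne_zero (pow_ne_zero _ hf0) (pow_ne_zero _ hp)
  have hgA : g ∈ A := A.mul_mem (A.pow_mem hfA _) (A.pow_mem hpA _)
  have hgv : ∀ i, (w i).v g = ((e : ℤ) + 1) * (w i).v f + n * (w i).v p := fun i => by
    rw [(w i).mul (pow_ne_zero _ hf0) (pow_ne_zero _ hp), (w i).pow hf0, (w i).pow hp]; push_cast; ring
  have hgj : (w j).v g = 0 := by rw [hgv, hn, he]; ring
  have hgi : ∀ i ∈ J.erase j, 1 ≤ (w i).v g := fun i hi => by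
    rw [hgv]
    have h1 : 0 ≤ (w i).v f := ((hfJ i hi).resolve_left hf0)
    have h2 := hpv i
    have : 0 < n := by omega
    nlinarith
  obtain ⟨c, hc, d, hd, hd0, hFd⟩ := hA F
  have hc0 : c ≠ 0 := hFd ▸ mul_ne_zero hF hd0
  let s := (w j).v d
  have hcv : (w j).v c = s := by rw [← hFd, (w j).mul hF hd0, hFv, zero_add]
  let q := p ^ (-s)
  have hq0 : q ≠ 0 := zpow_ne_zero _ hp
  have hqA : q ∈ A := by
    show p ^ (-s) ∈ A
    rcases Int.eq_nat_or_neg (-s) with ⟨m, hm | hm⟩ <;> rw [hm]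
    · rw [zpow_natCast]; exact A.pow_mem hpA m
    · rw [zpow_neg, zpow_natCast, ← inv_pow]; exact A.pow_mem hpA' m
  let c₁ := c * d ^ e * q
  let d₁ := d * d ^ e * q
  have hc₁0 : c₁ ≠ 0 := mul_ne_zero (mul_ne_zero hc0 (pow_ne_zero _ hd0)) hq0
  have hd₁0 : d₁ ≠ 0 := mul_ne_zero (mul_ne_zero hd0 (pow_ne_zero _ hd0)) hq0
  have hd₁v : (w j).v d₁ = 0 := by
    rw [(w j).mul (mul_ne_zero hd0 (pow_ne_zero _ hd0)) hq0, (w j).mul hd0 (pow_ne_zero _ hd0),
      (w j).pow hd0, (w j).zpow hp, he]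
    ring
  have hc₁v : (w j).v c₁ = 0 := by
    rw [(w j).mul (mul_ne_zero hc0 (pow_ne_zero _ hd0)) hq0, (w j).mul hc0 (pow_ne_zero _ hd0),
      (w j).pow hd0, (w j).zpow hp, he, hcv]
    ring
  let N := Finset.univ.sup fun i => max (-(w i).v c₁).toNat (-(w i).v d₁).toNat
  have hmem : ∀ x : L, x ∈ A → x ≠ 0 → (w j).v x = 0 → (∀ i, (-(w i).v x).toNat ≤ N) →
      x * g ^ N ∈ A ∧ ∀ i, (w i).Mem (x * g ^ N) := by
    intro x hxA hx0 hxv hxN
    refine ⟨A.mul_mem hxA (A.pow_mem hgA _), hJ _ (A.mul_mem hxA (A.pow_mem hgA _)) fun i hi => Or.inr ?_⟩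
    rw [(w i).mul hx0 (pow_ne_zero _ hg0), (w i).pow hg0]
    by_cases hij : i = j
    · subst hij; rw [hxv, hgj]; simp
    · have h1 := hgi i (Finset.mem_erase.2 ⟨hij, hi⟩)
      have h2 := hxN i
      have h3 : -(w i).v x ≤ (N : ℤ) := by omega
      nlinarith
  obtain ⟨hC, hCm⟩ := hmem c₁ (A.mul_mem (A.mul_mem hc (A.pow_mem hd _)) hqA) hc₁0 hc₁v fun i =>
    (le_max_left _ _).trans (Finset.le_sup (f := fun i => max (-(w i).v c₁).toNat (-(w i).v d₁).toNat) (Finset.mem_univ i))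
  obtain ⟨hD, hDm⟩ := hmem d₁ (A.mul_mem (A.mul_mem hd (A.pow_mem hd _)) hqA) hd₁0 hd₁v fun i =>
    (le_max_right _ _).trans (Finset.le_sup (f := fun i => max (-(w i).v c₁).toNat (-(w i).v d₁).toNat) (Finset.mem_univ i))
  refine ⟨_, hC, _, hD, mul_ne_zero hd₁0 (pow_ne_zero _ hg0), ?_, hCm, hDm, ?_⟩
  · rw [(w j).mul hd₁0 (pow_ne_zero _ hg0), (w j).pow hg0, hd₁v, hgj]; simp
  · simp only [c₁, d₁, ← hFd]; ring

/-- the valuation at a height one prime of a Noetherian normal domain -/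
theorem exists_zval {R : Type u} [CommRing R] [IsDomain R] [IsNoetherianRing R] [IsIntegrallyClosed R]
    {L : Type u} [Field L] [Algebra R L] [IsFractionRing R L] (P : Ideal R) [P.IsPrime] (hP : P.height = 1) :
    ∃ w : ZVal L, ∀ x : L, x ≠ 0 →
      ((0 ≤ w.v x ↔ ∃ s ∉ P, ∃ b, algebraMap R L s * x = algebraMap R L b) ∧
       (0 < w.v x ↔ ∃ s ∉ P, ∃ b ∈ P, algebraMap R L s * x = algebraMap R L b)) := by
  let S := Localization.AtPrime P
  letI : Algebra S L := (IsLocalization.lift (M := P.primeCompl) (g := algebraMap R L) fun s =>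
    isUnit_iff_ne_zero.2 ((map_ne_zero_iff _ (IsFractionRing.injective R L)).2 fun h => s.2 (h ▸ P.zero_mem))).toAlgebra
  haveI : IsScalarTower R S L := IsScalarTower.of_algebraMap_eq fun r => (IsLocalization.lift_eq _ r).symm
  haveI : IsFractionRing S L := IsFractionRing.isFractionRing_of_isDomain_of_isLocalization P.primeCompl S L
  haveI : IsDomain S := IsLocalization.isDomain_of_le_nonZeroDivisors S P.primeCompl_le_nonZeroDivisors
  haveI hdvr : IsDiscreteValuationRing S := by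
    obtain ⟨x, hxP, hx0⟩ : ∃ x ∈ P, x ≠ 0 := by
      refine Submodule.exists_mem_ne_zero_of_ne_bot fun hb => ?_
      rw [hb, Ideal.height_bot] at hP
      exact zero_ne_one hP
    have hmin : P ∈ (Ideal.span {x}).minimalPrimes := by
      obtain ⟨Q, hQ, hQP⟩ := Ideal.exists_minimalPrimes_le ((Ideal.span_singleton_le_iff_mem P).2 hxP)
      haveI := hQ.1.1
      rcases eq_or_lt_of_le hQP with h | h
      · exact h ▸ hQ
      exfalso
      have h1 := Ideal.height_strict_mono_of_isPrime (J := P) h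
      have hb : (⊥ : Ideal R) < Q := bot_lt_iff_ne_bot.2 fun hb => hx0 <| by
        simpa [hb] using hQ.1.2 (Ideal.mem_span_singleton_self x)
      have h2 := Ideal.height_strict_mono_of_isPrime (I := ⊥) (J := Q) hb
      rw [hP, Order.lt_one_iff] at h1
      exact not_lt_zero (h1 ▸ h2)
    exact (Groth.L01.isDVR_localization_of_mem_associatedPrimes hx0
      (Module.associatedPrimes.minimalPrimes_annihilator_subset_associatedPrimes R (R ⧸ Ideal.span {x})
        (by rwa [Ideal.annihilator_quotient])))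
  let vv := (IsDiscreteValuationRing.maximalIdeal S).valuation L
  let w : ZVal L := ⟨fun x => - WithZero.log (vv x), fun {x y} hx hy => by
    rw [map_mul, WithZero.log_mul ((Valuation.ne_zero_iff vv).2 hx) ((Valuation.ne_zero_iff vv).2 hy)]; ring⟩
  refine ⟨w, fun x hx => ?_⟩
  have h0 := (Valuation.ne_zero_iff vv).2 hx
  have e1 : 0 ≤ w.v x ↔ vv x ≤ 1 := by
    show 0 ≤ - WithZero.log (vv x) ↔ _
    rw [Left.nonneg_neg_iff, WithZero.log_le_iff_le_exp h0, WithZero.exp_zero]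
  have e2 : 0 < w.v x ↔ vv x < 1 := by
    show 0 < - WithZero.log (vv x) ↔ _
    rw [Left.neg_pos_iff, WithZero.log_lt_iff_lt_exp h0, WithZero.exp_zero]
  have key : ∀ (s : P.primeCompl) (b : R), algebraMap R L s * x = algebraMap R L b →
      x = algebraMap S L (IsLocalization.mk' S b s) := fun s b h => by
    have hu : algebraMap R L s ≠ 0 := (map_ne_zero_iff _ (IsFractionRing.injective R L)).2 fun h => s.2 (h ▸ P.zero_mem)
    apply mul_left_cancel₀ hu
    rw [h, IsScalarTower.algebraMap_apply R S L, IsScalarTower.algebraMap_apply R S L (s : R), ← map_mul, IsLocalization.mk'_spec']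
  refine ⟨e1.trans ⟨fun h => ?_, ?_⟩, e2.trans ⟨fun h => ?_, ?_⟩⟩
  · obtain ⟨a, rfl⟩ := IsDiscreteValuationRing.exists_lift_of_le_one h
    obtain ⟨b, s, rfl⟩ := IsLocalization.exists_mk'_eq P.primeCompl a
    exact ⟨s, s.2, b, by rw [IsScalarTower.algebraMap_apply R S L, ← map_mul, IsLocalization.mk'_spec', ← IsScalarTower.algebraMap_apply]⟩
  · rintro ⟨s, hs, b, hb⟩
    rw [key ⟨s, hs⟩ b hb]
    exact IsDedekindDomain.HeightOneSpectrum.valuation_le_one _ _
  · obtain ⟨a, rfl⟩ := IsDiscreteValuationRing.exists_lift_of_le_one h.le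
    obtain ⟨b, s, rfl⟩ := IsLocalization.exists_mk'_eq P.primeCompl a
    refine ⟨s, s.2, b, ?_, by rw [IsScalarTower.algebraMap_apply R S L, ← map_mul, IsLocalization.mk'_spec', ← IsScalarTower.algebraMap_apply]⟩
    have h1 := (IsDedekindDomain.HeightOneSpectrum.valuation_lt_one_iff_mem _ _).1 h
    rwa [show (IsDiscreteValuationRing.maximalIdeal S).asIdeal = maximalIdeal S from rfl,
      IsLocalization.AtPrime.mk'_mem_maximal_iff S P] at h1
  · rintro ⟨s, hs, b, hbP, hb⟩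
    rw [key ⟨s, hs⟩ b hb]
    refine (IsDedekindDomain.HeightOneSpectrum.valuation_lt_one_iff_mem _ _).2 ?_
    exact (IsLocalization.AtPrime.mk'_mem_maximal_iff S P b ⟨s, hs⟩).2 hbP

end Groth.L19.AffSpec
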