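import Groth.Agent.L19.AffSpec.UnipSpec
import Groth.Agent.L19.SpecSub.AlgClosedExt
import Groth.Agent.L19.SpecSub.FieldExt

/-!
# Affine and unipotent subgroups under field extensions
-/

set_option autoImplicit false
set_option backward.isDefEq.respectTransparency.types false
set_option linter.style.haveILetI false

universe u

open CategoryTheory CategoryTheory.Limits MonoidalCategory CartesianMonoidalCategory MonObj GrpObj AlgebraicGeometry
open Groth.L19.SpecSub Groth.L08.Borel

noncomputable section

namespace Groth.L19.AffSpec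

section Fields

variable {k K : Type u} [Field k] [Field K]

/-- a trivial group from its identity -/
theorem isTrivialGrp_of_id {S : Scheme.{u}} {T : Over S} [GrpObj T] (h : (𝟙 T : T ⟶ T) = 1) :
    Red.IsTrivialGrp T := by
  haveI : IsIso (toUnit T) := ⟨η[T], by rw [h, Hom.one_def], toUnit_unique _ _⟩
  show IsIso T.hom
  exact inferInstanceAs (IsIso ((Over.forget _).map (toUnit T)))

/-- a morphism out of a trivial group is trivial -/
theorem eq_one_of_trivial {S : Scheme.{u}} {T U : Over S} [GrpObj T] [GrpObj U] (h : Red.IsTrivialGrp T)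
    (f : T ⟶ U) [IsMonHom f] : f = 1 := by
  haveI : IsIso T.hom := h
  have ht : (𝟙 T : T ⟶ T) = 1 :=
    Over.OverMorphism.ext ((cancel_mono T.hom).1 ((Over.w (𝟙 T : T ⟶ T)).trans (Over.w _).symm))
  rw [← Category.id_comp f, ht, MonObj.one_comp]

/-- absence of subtori over an extension gives it over the field -/
theorem noSubtorus_of_bc (θ : Spec (CommRingCat.of K) ⟶ Spec (CommRingCat.of k))
    (U : Over (Spec (CommRingCat.of k))) [GrpObj U] (h : Red.HasNoSubtorus K (Red.bc θ U)) :
    Red.HasNoSubtorus k U := by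
  intro T _ j _ _ hT
  haveI : IsMonHom ((Over.pullback θ).map j) := Groth.L25.MonoClosed.isMonHom_pullbackMap _ _
  haveI : Mono ((Over.pullback θ).map j) := Functor.map_mono _ _
  haveI : IsIso (Red.bc θ T).hom := h (Red.bc θ T) ((Over.pullback θ).map j) (Groth.L25.Locus.isTorus_bc hT θ)
  refine isTrivialGrp_of_id (bc_faithful θ ?_)
  exact Over.OverMorphism.ext ((cancel_mono (Red.bc θ T).hom).1
    ((Over.w ((Over.pullback θ).map (𝟙 T))).trans (Over.w ((Over.pullback θ).map (1 : T ⟶ T))).symm))

/-- absence of subtori does not depend on the ground field -/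
theorem noSubtorus_bc_iff (θ : Spec (CommRingCat.of K) ⟶ Spec (CommRingCat.of k))
    (U : Over (Spec (CommRingCat.of k))) [GrpObj U] [IsAffine U.left] [Smooth U.hom] :
    Red.HasNoSubtorus K (Red.bc θ U) ↔ Red.HasNoSubtorus k U := by
  refine ⟨noSubtorus_of_bc θ U, fun h => ?_⟩
  haveI : LocallyOfFiniteType U.hom := inferInstance
  haveI : QuasiCompact U.hom := quasiCompact_of_compactSpace _
  obtain ⟨T, gT, iT, hT⟩ := Groth.Agent.S4121.result k U
  haveI := hT.1; haveI := hT.2.1
  haveI := Groth.L08.Borel.smooth_bc θ U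
  haveI := Groth.L08.Borel.isAffine_bc θ U
  have h0 : iT = 1 := eq_one_of_trivial (h T iT hT.2.2.1) iT
  have hK := (Groth.Agent.S16791.result inferInstance inferInstance iT hT.2.2.1 θ (surjective_field θ)).1 hT
  obtain ⟨s⟩ : Nonempty ↥(Spec (CommRingCat.of K)) := inferInstance
  refine noSubtorus_of_bc (Red.geomPt s) _ (hasNoSubtorus_of_maxTorus_one (isMaxTorus_geomFibre hK s) ?_)
  rw [h0, show (Over.pullback θ).map (1 : T ⟶ U) = 1 from map_one ((Over.pullback θ).homMonoidHom)]
  exact map_one ((Over.pullback (Red.geomPt s)).homMonoidHom)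

end Fields

variable {Q : GPred.{u}} {n : ℕ}

/-- Descent of affine subgroups from a bigger algebraically closed field. -/
theorem hasGEA_descend (hQ : SpecAff Q) {k F : Type u} [Field k] [IsAlgClosed k] [Field F] [IsAlgClosed F]
    [Algebra k F] (G : Over (Spec (CommRingCat.of k))) [GrpObj G] [LocallyOfFiniteType G.hom]
    [QuasiCompact G.hom]
    (h : HasGEA Q G n (Spec.map (CommRingCat.ofHom (algebraMap k F)))) :
    ∃ (H : Over (Spec (CommRingCat.of k))) (_ : GrpObj H) (i : H ⟶ G),
      IsMonHom i ∧ IsClosedImmersion i.left ∧ Smooth H.hom ∧ IsAffine H.left ∧ ConnectedSpace ↥H.left ∧ Q H ∧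
        (n : WithBot ℕ∞) ≤ topologicalKrullDim ↥H.left := by
  haveI : IsSeparated G.hom := Groth.Agent.AV.isSeparated_of_grpObj _
  obtain ⟨V, g, hg, hgφ, hint⟩ := exists_dominating_algebraic (algebraMap k F)
  haveI : IsAlgClosed (IsLocalRing.ResidueField V) := Groth.L06.EmbLift.isAlgClosed_residueField V
  let f : Spec (CommRingCat.of V) ⟶ Spec (CommRingCat.of k) := Spec.map (CommRingCat.ofHom g)
  have h1 : HasGEA Q G n (resClosed V ≫ f) := val_stepA (K := F) hQ f (by
    rw [show genPtOf V F ≫ f = Spec.map (CommRingCat.ofHom (algebraMap k F)) by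
      simp only [f, genPtOf, ← Spec.map_comp, ← CommRingCat.ofHom_comp]
      rw [show (algebraMap V F).comp g = algebraMap k F from hgφ]]
    exact h)
  let a : k →+* IsLocalRing.ResidueField V := (algebraMap V (IsLocalRing.ResidueField V)).comp g
  have ha : Function.Bijective a := by
    letI : Algebra k (IsLocalRing.ResidueField V) := a.toAlgebra
    haveI : Algebra.IsIntegral k (IsLocalRing.ResidueField V) := by
      refine ⟨fun t => ?_⟩
      obtain ⟨p, hp, hpt⟩ := hint t
      let r := RingEquiv.ofBijective (IsLocalRing.residue k)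
        ⟨(IsLocalRing.residue k).injective, IsLocalRing.residue_surjective⟩
      have hr : (algebraMap k (IsLocalRing.ResidueField V)).comp r.symm.toRingHom =
          IsLocalRing.ResidueField.map g := by
        refine RingHom.ext fun z => ?_
        obtain ⟨w, rfl⟩ := IsLocalRing.residue_surjective z
        exact (congrArg a (r.symm_apply_apply w)).trans (IsLocalRing.ResidueField.map_residue g w).symm
      refine ⟨p.map r.symm.toRingHom, hp.map _, ?_⟩
      rw [Polynomial.eval₂_map, hr]
      exact hpt
    exact IsAlgClosed.algebraMap_bijective_of_isIntegral (k := k) (K := IsLocalRing.ResidueField V)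
  let e := RingEquiv.ofBijective a ha
  obtain ⟨H, inst, i, hi, hc, hs, haff, hcon, hq, hd⟩ := hasGEA_congr hQ e.symm.toRingHom e.symm.bijective
    (x' := 𝟙 (Spec (CommRingCat.of k))) (by
      simp only [f, resClosed, ← Spec.map_comp, ← CommRingCat.ofHom_comp]
      rw [← Spec.map_id]
      congr 1
      ext z
      exact e.symm_apply_apply z) h1
  haveI := isMonHom_pullbackId G
  let e₀ : Red.bc (𝟙 (Spec (CommRingCat.of k))) G ≅ G := Over.pullbackId.app G
  haveI : IsMonHom e₀.hom := isMonHom_pullbackId G
  exact ⟨H, inst, i ≫ e₀.hom, inferInstance, isClosedImmersion_comp_iso i e₀, hs, haff, hcon, hq, hd⟩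

end Groth.L19.AffSpec
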