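import Groth.Agent.L19.AffSpec.Core
import Groth.Agent.L21.NormalAffine
import Mathlib.AlgebraicGeometry.Morphisms.Flat
import Mathlib.AlgebraicGeometry.Morphisms.UniversallyOpen
import Mathlib.AlgebraicGeometry.Morphisms.FiniteType
import Mathlib.AlgebraicGeometry.Morphisms.Immersion
import Mathlib.AlgebraicGeometry.ResidueField

/-!
# Functions on a component of the special fibre of a scheme with affine generic fibre
-/

set_option autoImplicit false
set_option linter.style.haveILetI false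
set_option linter.unusedSectionVars false
set_option backward.isDefEq.respectTransparency.types false
set_option synthInstance.maxHeartbeats 100000
set_option maxHeartbeats 1000000

universe u

open CategoryTheory AlgebraicGeometry TopologicalSpace Opposite

noncomputable section

namespace Groth.L19.AffSpec

/-- the global functions of an integral scheme inside its function field -/
abbrev globalRange (C : Scheme.{u}) [IsIntegral C] : Subring C.functionField :=
  (C.presheaf.germ ⊤ (genericPoint C) trivial).hom.range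

/-- an element of the function field which is regular on the members of an open cover is a global function -/
theorem mem_globalRange {C : Scheme.{u}} [IsIntegral C] {ι : Type u} (U : ι → C.Opens) (hcov : ∀ x : C, ∃ i, x ∈ U i)
    {f : C.functionField}
    (h : ∀ i, ∃ (hg : genericPoint C ∈ U i), ∃ s, C.presheaf.germ (U i) _ hg s = f) : f ∈ globalRange C := by
  choose hgen s hgerm using h
  have hcompat : TopCat.Presheaf.IsCompatible C.presheaf U s := by
    intro i j
    refine germ_injective_of_isIntegral C (genericPoint C) (show genericPoint C ∈ U i ⊓ U j from ⟨hgen i, hgen j⟩) ?_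
    rw [C.presheaf.germ_res_apply, C.presheaf.germ_res_apply, hgerm, hgerm]
  obtain ⟨g, hg, -⟩ := C.sheaf.existsUnique_gluing' U ⊤ (fun m => homOfLE le_top)
    (fun x _ => let ⟨i, hi⟩ := hcov x; Opens.mem_iSup.2 ⟨i, hi⟩) s hcompat
  obtain ⟨i, -⟩ := hcov (genericPoint C)
  refine ⟨g, ?_⟩
  rw [← hgerm i, ← hg i]
  exact (C.presheaf.germ_res_apply _ _ _ _).symm

/-- **Rational functions on the component are algebraic over its regular functions.** -/
theorem isAlgebraic_functionField {V : Type u} [CommRing V] [IsDomain V] [IsDiscreteValuationRing V]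
    (hV : CAlg.IsNagata V) (hVc : CAlg.IsUniversallyCatenary V) {X : Scheme.{u}}
    (f : X ⟶ Spec (CommRingCat.of V)) [LocallyOfFiniteType f] [Flat f] {π : V} (hπ : Irreducible π)
    (haff : IsAffineOpen (f ⁻¹ᵁ PrimeSpectrum.basicOpen π)) {C : Scheme.{u}} [IsIntegral C]
    (hN : ∀ x : C, IsDomain (C.presheaf.stalk x) ∧ IsIntegrallyClosed (C.presheaf.stalk x))
    (c : C ⟶ X) [IsClosedImmersion c] (hsp : ∀ x, f (c x) = IsLocalRing.closedPoint V) (W : X.Opens)
    (hW : ∀ x ∈ W, f x = IsLocalRing.closedPoint V → x ∈ Set.range c) (hcW : ∀ x, c x ∈ W)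
    (x : C.functionField) : IsAlgebraic (Subfield.closure (globalRange C : Set C.functionField)) x := by
  classical
  let ξ := c (genericPoint C)
  let D : (Spec (CommRingCat.of V)).Opens := PrimeSpectrum.basicOpen π
  have hπ0 : π ≠ 0 := hπ.ne_zero
  have hD : ∀ y : Spec (CommRingCat.of V), y ∈ D ↔ y ≠ IsLocalRing.closedPoint V := by
    intro y
    refine ⟨fun h e => ?_, fun h hy => h ?_⟩
    · subst e
      exact h (by rw [show (IsLocalRing.closedPoint V).asIdeal = IsLocalRing.maximalIdeal V from rfl,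
        hπ.maximalIdeal_eq]; exact Ideal.mem_span_singleton_self π)
    · exact PrimeSpectrum.ext ((IsLocalRing.maximalIdeal.isMaximal V).eq_of_le y.isPrime.ne_top
        (by rw [hπ.maximalIdeal_eq, Ideal.span_singleton_le_iff_mem]; exact hy)).symm
  -- the generalisation in the generic fibre
  obtain ⟨η, hη, hηD⟩ : ∃ η, η ⤳ ξ ∧ f η ∈ D := by
    let b : Spec (CommRingCat.of V) := (⟨⊥, Ideal.isPrime_bot⟩ : PrimeSpectrum V)
    have hb : b ⤳ f ξ := (PrimeSpectrum.le_iff_specializes (⟨⊥, Ideal.isPrime_bot⟩ : PrimeSpectrum V) (f ξ)).1 bot_le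
    obtain ⟨η, h1, h2⟩ := (Flat.generalizingMap f) hb
    exact ⟨η, h1, show f η ∈ D by rw [h2]; exact fun h => hπ0 h⟩
  let L := X.residueField η
  let e : X.presheaf.stalk ξ →+* L := (X.presheaf.stalkSpecializes hη ≫ X.residue η).hom
  have hev : ∀ (U : X.Opens) (hU : ξ ∈ U) (s : Γ(X, U)), e (X.presheaf.germ U ξ hU s) =
      X.evaluation U η (hη.mem_open U.2 hU) s := fun U hU s => by
    show X.residue η (X.presheaf.stalkSpecializes hη (X.presheaf.germ U ξ hU s)) = _
    rw [TopCat.Presheaf.germ_stalkSpecializes_apply]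
    rfl
  let gV : V →+* Γ(X, ⊤) := ((Scheme.ΓSpecIso (CommRingCat.of V)).inv ≫ f.appTop).hom
  letI : Algebra V L := (e.comp ((X.presheaf.germ ⊤ ξ trivial).hom.comp gV)).toAlgebra
  have hgV : ∀ (U : X.Opens) (hU : η ∈ U) (v : V),
      X.evaluation U η hU (X.presheaf.map (homOfLE le_top).op (gV v)) = algebraMap V L v := fun U hU v => by
    refine Eq.trans ?_ (hev ⊤ trivial (gV v)).symm
    show X.residue η (X.presheaf.germ U η hU _) = X.residue η (X.presheaf.germ ⊤ η trivial _)
    rw [X.presheaf.germ_res_apply]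
  have hbo : X.basicOpen (gV π) = f ⁻¹ᵁ D := by
    show X.basicOpen (f.appTop ((Scheme.ΓSpecIso (CommRingCat.of V)).inv π)) = _
    rw [← Scheme.preimage_basicOpen_top]
    congr 1
    exact basicOpen_eq_of_affine (R := CommRingCat.of V) π
  let O : Subring L := e.range
  let ev : X.presheaf.stalk ξ →+* C.functionField := (c.stalkMap (genericPoint C)).hom
  have hev' : Function.Surjective ev := c.stalkMap_surjective _
  have hker : ∀ a, e a = 0 → ev a = 0 := fun a ha => by
    by_contra hn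
    have : IsUnit a := by
      by_contra hu
      haveI hmax : (RingHom.ker ev).IsMaximal := RingHom.ker_isMaximal_of_surjective ev hev'
      exact hn ((IsLocalRing.eq_maximalIdeal hmax).symm ▸ (IsLocalRing.mem_maximalIdeal a).2 hu :
        a ∈ RingHom.ker ev)
    exact not_isUnit_zero (ha ▸ this.map e)
  let r : O →+* C.functionField := e.rangeRestrict.liftOfSurjective e.rangeRestrict_surjective
    ⟨ev, fun a ha => hker a (congrArg Subtype.val ha)⟩
  have hr : ∀ a, r (e.rangeRestrict a) = ev a := RingHom.liftOfSurjective_comp_apply _ _ _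
  have hrs : Function.Surjective r := fun y => by
    obtain ⟨a, rfl⟩ := hev' y; exact ⟨_, hr a⟩
  let A : Subring L := (X.evaluation (f ⁻¹ᵁ D) η hηD).hom.range
  have hπu : IsUnit (X.presheaf.map (homOfLE le_top).op (gV π) : Γ(X, f ⁻¹ᵁ D)) :=
    X.toRingedSpace.isUnit_of_isUnit_germ _ _ fun y hy => by
      have hy' : y ∈ X.basicOpen (gV π) := hbo.symm ▸ hy
      rw [X.presheaf.germ_res_apply]
      exact (Scheme.mem_basicOpen X (gV π) y trivial).1 hy'
  have hπL : IsUnit (algebraMap V L π) := hgV (f ⁻¹ᵁ D) hηD π ▸ hπu.map _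
  have hπA : algebraMap V L π ∈ A := ⟨_, hgV (f ⁻¹ᵁ D) hηD π⟩
  have hπA' : (algebraMap V L π)⁻¹ ∈ A := by
    obtain ⟨w, hw⟩ := hπu.exists_left_inv
    refine ⟨w, eq_inv_of_mul_eq_one_left ?_⟩
    rw [← hgV (f ⁻¹ᵁ D) hηD π, ← map_mul, hw, map_one]
  have hA : ∀ y : L, ∃ a ∈ A, ∃ d ∈ A, d ≠ 0 ∧ y * d = a := fun y => by
    obtain ⟨t, rfl⟩ := X.residue_surjective η y
    letI := X.presheaf.algebra_section_stalk (⟨η, hηD⟩ : (f ⁻¹ᵁ D : X.Opens))
    haveI := haff.isLocalization_stalk ⟨η, hηD⟩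
    obtain ⟨b, s, rfl⟩ := IsLocalization.exists_mk'_eq (haff.primeIdealOf ⟨η, hηD⟩).asIdeal.primeCompl t
    have hu : IsUnit (algebraMap Γ(X, f ⁻¹ᵁ D) (X.presheaf.stalk η) s) := IsLocalization.map_units _ s
    refine ⟨_, ⟨b, rfl⟩, _, ⟨s, rfl⟩, ?_, ?_⟩
    · exact (hu.map (X.residue η).hom).ne_zero
    · show X.residue η _ * X.residue η (algebraMap Γ(X, f ⁻¹ᵁ D) _ s) = X.residue η (algebraMap Γ(X, f ⁻¹ᵁ D) _ b)
      rw [← map_mul, IsLocalization.mk'_spec]
  let ι := {U : X.affineOpens // ξ ∈ (U : X.Opens) ∧ (U : X.Opens) ≤ W}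
  have hspec : ∀ (U : ι) (u : X), u ∈ U.1.1 → f u = IsLocalRing.closedPoint V → ξ ⤳ u := fun U u hu he => by
    obtain ⟨z, rfl⟩ := hW u (U.2.2 hu) he
    exact ((genericPoint_spec C).specializes trivial).map c.continuous
  haveI hne : Nonempty ι := by
    obtain ⟨_, ⟨U, hU, rfl⟩, hx, hle⟩ := X.isBasis_affineOpens.exists_subset_of_mem_open (hcW (genericPoint C)) W.2
    exact ⟨⟨⟨U, hU⟩, hx, hle⟩⟩
  let gU : ∀ U : ι, V →+* Γ(X, U.1.1) := fun U => (X.presheaf.map (homOfLE le_top).op).hom.comp gV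
  let evU : ∀ U : ι, Γ(X, U.1.1) →+* L := fun U => (X.evaluation U.1.1 η (hη.mem_open U.1.1.2 U.2.1)).hom
  let B : ι → Subalgebra V L := fun U =>
    { (evU U).range with
      algebraMap_mem' := fun v => ⟨gU U v, hgV _ _ v⟩ }
  have hBmem : ∀ U y, y ∈ B U ↔ ∃ s, evU U s = y := fun U y => Iff.rfl
  have heU : ∀ (U : ι) s, evU U s = e (X.presheaf.germ U.1.1 ξ U.2.1 s) := fun U s => (hev _ U.2.1 s).symm
  have hle : ∀ (U : ι) (b : L), b ∈ B U → b ∈ O := fun U b hb => by
    obtain ⟨s, rfl⟩ := hb; exact ⟨_, (heU U s).symm⟩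
  have hres : ∀ (U : ι) (s : Γ(X, U.1.1)) (h : evU U s ∈ O),
      r ⟨evU U s, h⟩ = ev (X.presheaf.germ U.1.1 ξ U.2.1 s) := fun U s h => by
    rw [← hr]; exact congrArg r (Subtype.ext (heU U s))
  have hBc : ∀ U, IsChart O r A π (B U) := fun U => by
    have hUaff : IsAffineOpen U.1.1 := U.1.2
    have hft : (gU U).FiniteType := by
      have h1 : (f.appLE ⊤ U.1.1 le_top).hom.FiniteType :=
        LocallyOfFiniteType.finiteType_appLE (f := f) (isAffineOpen_top _) hUaff le_top
      exact h1.comp (RingHom.FiniteType.of_surjective _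
        (ConcreteCategory.bijective_of_isIso (Scheme.ΓSpecIso (CommRingCat.of V)).inv).2)
    refine ⟨?_, hle U, fun o => ?_, fun b hb hrb => ?_, ?_, fun a ha => ?_⟩
    · letI : Algebra V Γ(X, U.1.1) := (gU U).toAlgebra
      haveI : Algebra.FiniteType V Γ(X, U.1.1) := hft
      let φ : Γ(X, U.1.1) →ₐ[V] L := ⟨evU U, fun v => hgV _ _ v⟩
      have : φ.range = B U := SetLike.ext fun y => Iff.rfl
      rw [← this, ← Algebra.map_top]
      exact Subalgebra.FG.map _ Algebra.FiniteType.out
    · obtain ⟨_, a, rfl⟩ := o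
      letI := X.presheaf.algebra_section_stalk ⟨ξ, U.2.1⟩
      haveI := hUaff.isLocalization_stalk ⟨ξ, U.2.1⟩
      obtain ⟨b, s, rfl⟩ := IsLocalization.exists_mk'_eq (hUaff.primeIdealOf ⟨ξ, U.2.1⟩).asIdeal.primeCompl a
      refine ⟨_, ⟨b, rfl⟩, _, ⟨s, rfl⟩, ?_, ?_⟩
      · rw [hres]
        exact ((IsLocalization.map_units (X.presheaf.stalk ξ) s).map ev).ne_zero
      · show e _ * evU U s = evU U b
        rw [heU, heU, ← map_mul]
        exact congrArg e (IsLocalization.mk'_spec (X.presheaf.stalk ξ) b s)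
    · obtain ⟨s, rfl⟩ := hb
      rw [hres] at hrb
      have hrad : s ∈ (Ideal.span {gU U π}).radical := by
        rw [Ideal.radical_eq_sInf, Submodule.mem_sInf]
        rintro P ⟨hP, hPp⟩
        by_contra hsP
        let q : PrimeSpectrum Γ(X, U.1.1) := ⟨P, hPp⟩
        let u := hUaff.fromSpec q
        have huU : u ∈ U.1.1 := hUaff.range_fromSpec.le ⟨q, rfl⟩
        have hus : u ∈ X.basicOpen s := by
          have : q ∈ hUaff.fromSpec ⁻¹ᵁ X.basicOpen s := by rw [hUaff.fromSpec_preimage_basicOpen]; exact hsP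
          exact this
        have hun : u ∉ X.basicOpen (gU U π) := fun hu => by
          have : q ∈ hUaff.fromSpec ⁻¹ᵁ X.basicOpen (gU U π) := hu
          rw [hUaff.fromSpec_preimage_basicOpen] at this
          exact this (hP (Ideal.mem_span_singleton_self _))
        have hsu : ξ ⤳ u := hspec U u huU <| by
          by_contra hne'
          refine hun ?_
          show u ∈ X.basicOpen (X.presheaf.map (homOfLE le_top).op (gV π))
          rw [Scheme.basicOpen_res, hbo]
          exact ⟨huU, (hD _).2 hne'⟩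
        have := ((Scheme.mem_basicOpen X s ξ U.2.1).1 (hsu.mem_open (X.basicOpen s).2 hus)).map ev
        rw [hrb] at this
        exact not_isUnit_zero this
      obtain ⟨n, hn⟩ := hrad
      obtain ⟨d, hd⟩ := Ideal.mem_span_singleton'.1 hn
      refine ⟨n, evU U d, ⟨d, rfl⟩, ?_⟩
      rw [← map_pow, ← hd, map_mul, mul_comm]
      exact congrArg (· * evU U d) (hgV _ _ π)
    · have hh := hres U (gU U π) (hle U _ ⟨_, rfl⟩)
      have e1 : evU U (gU U π) = algebraMap V L π := hgV _ _ π
      refine (congrArg r (Subtype.ext e1.symm)).trans (hh.trans ?_)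
      by_contra hn
      have hu : IsUnit (X.presheaf.germ U.1.1 ξ U.2.1 (gU U π)) := by
        by_contra hu
        haveI hmax : (RingHom.ker ev).IsMaximal := RingHom.ker_isMaximal_of_surjective ev hev'
        exact hn ((IsLocalRing.eq_maximalIdeal hmax).symm ▸ (IsLocalRing.mem_maximalIdeal _).2 hu :
          _ ∈ RingHom.ker ev)
      have h1 : ξ ∈ X.basicOpen (gU U π) := (Scheme.mem_basicOpen X _ _ U.2.1).2 hu
      rw [show X.basicOpen (gU U π) = U.1.1 ⊓ X.basicOpen (gV π) from Scheme.basicOpen_res _ _ _, hbo] at h1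
      exact (hD _).1 h1.2 (hsp _)
    · obtain ⟨a, rfl⟩ := ha
      have hle' : X.basicOpen (gU U π) ≤ f ⁻¹ᵁ D := by
        rw [show X.basicOpen (gU U π) = U.1.1 ⊓ X.basicOpen (gV π) from Scheme.basicOpen_res _ _ _, hbo]
        exact inf_le_right
      haveI := hUaff.isLocalization_basicOpen (gU U π)
      obtain ⟨b, ⟨_, m, rfl⟩, hb⟩ := IsLocalization.exists_mk'_eq (Submonoid.powers (gU U π))
        (X.presheaf.map (homOfLE hle').op a)
      refine ⟨m, b, ?_⟩
      have hηU : η ∈ X.basicOpen (gU U π) := by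
        rw [show X.basicOpen (gU U π) = U.1.1 ⊓ X.basicOpen (gV π) from Scheme.basicOpen_res _ _ _, hbo]
        exact ⟨hη.mem_open U.1.1.2 U.2.1, hηD⟩
      have hev2 : ∀ (U' V' : X.Opens) (h : U' ≤ V') (hm : η ∈ U') (s : Γ(X, V')),
          X.evaluation U' η hm (X.presheaf.map (homOfLE h).op s) = X.evaluation V' η (h hm) s := fun U' V' h hm s =>
        congrArg (X.residue η) (X.presheaf.germ_res_apply _ _ _ _)
      have h2 := congrArg (X.evaluation _ η hηU) (IsLocalization.mk'_spec Γ(X, X.basicOpen (gU U π)) b (⟨gU U π ^ m, m, rfl⟩ : Submonoid.powers (gU U π)))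
      rw [hb, map_mul] at h2
      simp only [map_pow] at h2
      rw [show (algebraMap Γ(X, U.1.1) Γ(X, X.basicOpen (gU U π))) =
        (X.presheaf.map (homOfLE (X.basicOpen_le (gU U π))).op).hom from rfl, hev2, hev2] at h2
      have h3 := hev2 _ _ (X.basicOpen_le (gU U π)) hηU b
      show X.evaluation U.1.1 η _ b = algebraMap V L π ^ m * X.evaluation (f ⁻¹ᵁ D) η hηD a
      refine (h3.symm.trans h2.symm).trans ?_
      rw [mul_comm]
      exact congrArg (fun t => t ^ m * X.evaluation (f ⁻¹ᵁ D) η hηD a) (hgV _ _ π)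
  have key := algebraic_over_common hV hVc hrs hπL.ne_zero hπA hπA' hA B hBc x
  have hsub : {y : C.functionField | ∀ U, (hBc U).res.IsIntegralElem y} ⊆ globalRange C := by
    intro y hy
    refine mem_globalRange (fun U : ι => c ⁻¹ᵁ U.1.1) (fun z => ?_) fun U => ⟨U.2.1, ?_⟩
    · obtain ⟨_, ⟨U', hU', rfl⟩, hx, hle'⟩ := X.isBasis_affineOpens.exists_subset_of_mem_open (hcW z) W.2
      exact ⟨⟨⟨U', hU'⟩, (((genericPoint_spec C).specializes trivial).map c.continuous).mem_open U'.2 hx, hle'⟩, hx⟩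
    haveI : Nonempty (c ⁻¹ᵁ U.1.1).toScheme := ⟨⟨genericPoint C, U.2.1⟩⟩
    have hCU : IsAffineOpen (c ⁻¹ᵁ U.1.1) := U.1.2.preimage c
    haveI := Groth.L21.isIntegrallyClosed_of_normal hN hCU
    haveI := functionField_isFractionRing_of_isAffineOpen C _ hCU
    obtain ⟨p, hp, hp0⟩ := hy U
    have hl : p.map (hBc U).res ∈ Polynomial.lifts (algebraMap Γ(C, c ⁻¹ᵁ U.1.1) C.functionField) := by
      refine (Polynomial.lifts_iff_coeff_lifts _).2 fun n => ?_
      rw [Polynomial.coeff_map]
      generalize p.coeff n = b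
      obtain ⟨_, s, rfl⟩ := b
      refine ⟨c.app U.1.1 s, ?_⟩
      show _ = r ⟨evU U s, _⟩
      rw [hres]
      exact (c.germ_stalkMap_apply U.1.1 (genericPoint C) U.2.1 s).symm
    obtain ⟨q, hq, -, hqm⟩ := Polynomial.lifts_and_natDegree_eq_and_monic hl (hp.map _)
    have hint : IsIntegral Γ(C, c ⁻¹ᵁ U.1.1) y := ⟨q, hqm, by
      rw [← Polynomial.eval_map, hq, Polynomial.eval_map]
      exact hp0⟩
    obtain ⟨s, hs⟩ := (IsIntegrallyClosed.isIntegral_iff (R := Γ(C, c ⁻¹ᵁ U.1.1)) (K := C.functionField)).1 hint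
    exact ⟨s, hs⟩
  exact key.ringHom_of_comp_eq (Subfield.inclusion (Subfield.closure_mono hsub)) (RingHom.id C.functionField)
    (RingHom.injective _) rfl

end Groth.L19.AffSpec
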