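import Groth.Agent.L19.AffSpec.Extend
import Groth.Agent.L25.RatConn
import Groth.Agent.L08.MonoClosed
import Groth.Agent.L25.GrpDeriv
import Groth.Agent.S5341

/-!
# Unipotent subgroups over the fraction field of a valuation ring with a field of representatives
-/

set_option autoImplicit false
set_option backward.isDefEq.respectTransparency.types false
set_option linter.style.haveILetI false
set_option linter.unusedSectionVars false

universe u

open CategoryTheory CategoryTheory.Limits MonoidalCategory CartesianMonoidalCategory MonObj GrpObj AlgebraicGeometry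
open Groth.L19.SpecSub Groth.L08.Borel

noncomputable section

namespace Groth.L19.AffSpec

/-- the reduced identity component over a perfect field -/
theorem exists_idComp_perfect {k : Type u} [Field k] [PerfectField k] (G : Over (Spec (CommRingCat.of k))) [GrpObj G]
    [LocallyOfFiniteType G.hom] :
    ∃ (R : Over (Spec (CommRingCat.of k))) (_ : GrpObj R) (j : R ⟶ G), IsMonHom j ∧ IsClosedImmersion j.left ∧
      Smooth R.hom ∧ ConnectedSpace R.left ∧ topologicalKrullDim R.left = topologicalKrullDim G.left := by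
  obtain ⟨C, gC, c, hc, hcc, hcf, hr, hgi, -⟩ := Groth.Agent.S7520.result k G
  haveI : LocallyOfFiniteType C.hom := by rw [← Over.w c]; infer_instance
  haveI : IsLocallyNoetherian G.left := LocallyOfFiniteType.isLocallyNoetherian G.hom
  haveI : IsOpenImmersion c.left := IsOpenImmersion.of_flat_of_mono c.left
  obtain ⟨R, gR, j, hj, hred, hjc, hjr⟩ := Groth.L08.MonoClosed.exists_reduced_subgroup (G := C) Set.univ
    isClosed_univ trivial (fun _ _ _ => trivial) (fun _ _ => trivial)
  haveI := hjc; haveI := hred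
  haveI : LocallyOfFiniteType R.hom := by rw [← Over.w j]; infer_instance
  haveI hs : Surjective j.left := ⟨Set.range_eq_univ.1 hjr⟩
  haveI : Smooth R.hom := by
    letI : GrpObj (Over.mk R.hom) := gR
    exact Groth.L25.GrpDeriv.smooth_of_perfectField R.hom
  let e : R.left ≃ₜ C.left :=
    (j.left.isEmbedding.toHomeomorph).trans
      ((Homeomorph.setCongr (Set.range_eq_univ.2 hs.surj)).trans (Homeomorph.Set.univ _))
  haveI : ConnectedSpace R.left := by
    haveI := connected_of_geomIrred C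
    exact e.symm.surjective.connectedSpace e.symm.continuous
  haveI : IsClosedImmersion (j ≫ c).left := by rw [Over.comp_left]; infer_instance
  refine ⟨R, gR, j ≫ c, inferInstance, inferInstance, inferInstance, inferInstance, ?_⟩
  rw [IsHomeomorph.topologicalKrullDim_eq _ e.isHomeomorph]
  refine le_antisymm c.left.isEmbedding.isInducing.topologicalKrullDim_le ?_
  rw [← (Groth.Agent.S5341.result k G).2 (c.left ((η[C] : 𝟙_ _ ⟶ C).left (IsLocalRing.closedPoint k)))]
  refine iInf_le_of_le ⟨c.left.opensRange, ⟨_, rfl⟩⟩ ?_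
  exact le_of_eq (IsHomeomorph.topologicalKrullDim_eq _ c.left.isEmbedding.toHomeomorph.isHomeomorph).symm

/-- the base change along equal composites -/
theorem exists_iso_bc_bc {S A A' B : Scheme.{u}} {a : A ⟶ S} {b : B ⟶ A} {a' : A' ⟶ S} {b' : B ⟶ A'}
    (w : b ≫ a = b' ≫ a') (H : Over S) [GrpObj H] :
    ∃ e : Red.bc b (Red.bc a H) ≅ Red.bc b' (Red.bc a' H), IsMonHom e.hom ∧ IsMonHom e.inv := by
  haveI i1 := Groth.L25.LimHom.isMonHom_cmp w H
  haveI i2 := Groth.L25.LimHom.isMonHom_cmp_inv (rfl : b' ≫ a' = b' ≫ a') H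
  haveI i3 := Groth.L25.LimHom.isMonHom_cmp (rfl : b' ≫ a' = b' ≫ a') H
  haveI i4 := Groth.L25.LimHom.isMonHom_cmp_inv w H
  refine ⟨Groth.L25.LimHom.cmp w H ≪≫ (Groth.L25.LimHom.cmp (rfl : b' ≫ a' = b' ≫ a') H).symm, ?_, ?_⟩
  · show IsMonHom ((Groth.L25.LimHom.cmp w H).hom ≫ (Groth.L25.LimHom.cmp (rfl : b' ≫ a' = b' ≫ a') H).inv)
    infer_instance
  · show IsMonHom ((Groth.L25.LimHom.cmp (rfl : b' ≫ a' = b' ≫ a') H).hom ≫ (Groth.L25.LimHom.cmp w H).inv)
    infer_instance

/-- the flat model of a subgroup of the generic fibre -/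
theorem exists_flat_model {R : Type u} [CommRing R] [IsDomain R] [IsBezout R] {K : Type u} [Field K] [Algebra R K]
    [IsFractionRing R K] {S : Scheme.{u}} (f : Spec (CommRingCat.of R) ⟶ S) {x : Spec (CommRingCat.of K) ⟶ S}
    (hgf : genPtOf R K ≫ f = x) (G : Over S) [GrpObj G] [LocallyOfFiniteType G.hom] [QuasiCompact G.hom]
    [IsSeparated G.hom] (U : Over (Spec (CommRingCat.of K))) [GrpObj U] (i : U ⟶ Red.bc x G) [IsMonHom i]
    [IsClosedImmersion i.left] :
    ∃ (H : Over (Spec (CommRingCat.of R))) (_ : GrpObj H) (j : H ⟶ Red.bc f G)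
      (u : U ⟶ Red.bc (genPtOf R K) H), IsMonHom j ∧ IsClosedImmersion j.left ∧ Flat H.hom ∧
      LocallyOfFiniteType H.hom ∧ QuasiCompact H.hom ∧ IsSeparated H.hom ∧ IsMonHom u ∧ IsIso u := by
  haveI h1 : LocallyOfFiniteType (Red.bc f G).hom := MorphismProperty.pullback_snd _ _ ‹LocallyOfFiniteType G.hom›
  haveI h2 : QuasiCompact (Red.bc f G).hom := MorphismProperty.pullback_snd _ _ ‹QuasiCompact G.hom›
  haveI h3 : IsSeparated (Red.bc f G).hom := MorphismProperty.pullback_snd _ _ ‹IsSeparated G.hom›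
  haveI : IsMonHom (Groth.L25.LimHom.cmp hgf G).inv := Groth.L25.LimHom.isMonHom_cmp_inv hgf G
  let i₀ : U ⟶ Red.bc (genPtOf R K) (Red.bc f G) := i ≫ (Groth.L25.LimHom.cmp hgf G).inv
  haveI : IsMonHom i₀ := inferInstanceAs (IsMonHom (i ≫ (Groth.L25.LimHom.cmp hgf G).inv))
  haveI : IsClosedImmersion i₀.left := isClosedImmersion_comp_iso i (Groth.L25.LimHom.cmp hgf G).symm
  obtain ⟨H, instH, j, m, hj, hjc, hflat, sq, hm, -⟩ := Groth.L19.SpecSub.exists_closure (Red.bc f G) U i₀
  haveI : LocallyOfFiniteType H.hom := by rw [← Over.w j]; infer_instance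
  haveI : QuasiCompact H.hom := by rw [← Over.w j]; infer_instance
  haveI : IsSeparated H.hom := by rw [← Over.w j]; infer_instance
  haveI : IsIso ((Over.forget _).map
      (Over.homMk sq.isoPullback.hom sq.isoPullback_hom_snd : U ⟶ Red.bc (genPtOf R K) H)) :=
    inferInstanceAs (IsIso sq.isoPullback.hom)
  let u : U ⟶ Red.bc (genPtOf R K) H := Over.homMk sq.isoPullback.hom sq.isoPullback_hom_snd
  haveI : IsIso u := isIso_of_reflects_iso u (Over.forget _)
  let jK : Red.bc (genPtOf R K) H ⟶ Red.bc (genPtOf R K) (Red.bc f G) := (Over.pullback (genPtOf R K)).map j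
  haveI : IsMonHom jK := inferInstanceAs (IsMonHom ((Over.pullback (genPtOf R K)).map j))
  haveI : IsClosedImmersion jK.left := isClosedImmersion_bc (genPtOf R K) j
  haveI : Mono jK := Over.mono_of_mono_left jK
  have hu : u ≫ jK = i₀ := by
    apply Over.OverMorphism.ext
    apply pullback.hom_ext
    · rw [Over.comp_left, Category.assoc, Groth.Agent.NeronL.pb_map_fst, ← Category.assoc]
      exact (congrArg (· ≫ j.left) sq.isoPullback_hom_fst).trans hm
    · rw [Over.comp_left, Category.assoc, Groth.Agent.NeronL.pb_map_snd]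
      exact sq.isoPullback_hom_snd.trans (Over.w i₀).symm
  haveI : IsMonHom (u ≫ jK) := hu ▸ ‹IsMonHom i₀›
  exact ⟨H, instH, j, u, hj, hjc, hflat, inferInstance, inferInstance, inferInstance, isMonHom_of_fac u jK,
    inferInstance⟩

/-- a subgroup of the special fibre of a flat model lies in the group -/
theorem exists_hom_into {S A : Scheme.{u}} (f : A ⟶ S) (r : S ⟶ A) (hrf : r ≫ f = 𝟙 S) (G : Over S) [GrpObj G]
    {H : Over A} [GrpObj H] (j : H ⟶ Red.bc f G) [IsMonHom j] [IsClosedImmersion j.left]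
    {U' : Over S} [GrpObj U'] (ρ : U' ⟶ Red.bc r H) [IsMonHom ρ] [IsClosedImmersion ρ.left] :
    ∃ i' : U' ⟶ G, IsMonHom i' ∧ IsClosedImmersion i'.left := by
  let js : Red.bc r H ⟶ Red.bc r (Red.bc f G) := (Over.pullback r).map j
  haveI : IsMonHom js := inferInstanceAs (IsMonHom ((Over.pullback r).map j))
  haveI : IsClosedImmersion js.left := isClosedImmersion_bc _ j
  haveI : IsClosedImmersion (ρ ≫ js).left := by rw [Over.comp_left]; infer_instance
  let c₁ : Red.bc r (Red.bc f G) ≅ Red.bc (𝟙 S) G := Groth.L25.LimHom.cmp hrf G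
  let c₂ : Red.bc (𝟙 S) G ≅ G := Over.pullbackId.app G
  haveI : IsMonHom c₁.hom := Groth.L25.LimHom.isMonHom_cmp hrf G
  haveI : IsMonHom c₂.hom := Groth.L19.SpecSub.isMonHom_pullbackId G
  haveI : IsMonHom (c₁ ≪≫ c₂).hom := inferInstanceAs (IsMonHom (c₁.hom ≫ c₂.hom))
  exact ⟨(ρ ≫ js) ≫ (c₁ ≪≫ c₂).hom, inferInstance, isClosedImmersion_comp_iso _ (c₁ ≪≫ c₂)⟩

/-- **Unipotent subgroups over the fraction field give some over the field of representatives.** -/
theorem exists_noSub_of_valuationRing {k : Type u} [Field k] [PerfectField k] {R : Type u} [CommRing R] [IsDomain R]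
    [ValuationRing R] {K : Type u} [Field K] [Algebra R K] [IsFractionRing R K] (ψ : k →+* R) (φ : R →+* k)
    (hφψ : ∀ c, φ (ψ c) = c) (hloc : ∀ x, φ x = 0 → ¬ IsUnit x)
    (G : Over (Spec (CommRingCat.of k))) [GrpObj G] [LocallyOfFiniteType G.hom] [QuasiCompact G.hom] {d : ℕ}
    (U : Over (Spec (CommRingCat.of K))) [GrpObj U]
    (i : U ⟶ Red.bc (Spec.map (CommRingCat.ofHom ((algebraMap R K).comp ψ))) G) [IsMonHom i] [IsClosedImmersion i.left]
    [Smooth U.hom] [IsAffine U.left] [ConnectedSpace U.left] (hns : Red.HasNoSubtorus K U)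
    (hd : (d : WithBot ℕ∞) ≤ topologicalKrullDim ↥U.left) :
    ∃ (U' : Over (Spec (CommRingCat.of k))) (_ : GrpObj U') (i' : U' ⟶ G), IsMonHom i' ∧ IsClosedImmersion i'.left ∧
      Smooth U'.hom ∧ IsAffine U'.left ∧ ConnectedSpace ↥U'.left ∧ Red.HasNoSubtorus k U' ∧
      (d : WithBot ℕ∞) ≤ topologicalKrullDim ↥U'.left := by
  let gp := genPtOf R K
  let f : Spec (CommRingCat.of R) ⟶ Spec (CommRingCat.of k) := Spec.map (CommRingCat.ofHom ψ)
  let r : Spec (CommRingCat.of k) ⟶ Spec (CommRingCat.of R) := Spec.map (CommRingCat.ofHom φ)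
  have hrf : r ≫ f = 𝟙 _ := by
    rw [← Spec.map_comp, ← Spec.map_id, ← CommRingCat.ofHom_comp]
    congr 1
    ext c
    exact hφψ c
  have hgf : gp ≫ f = Spec.map (CommRingCat.ofHom ((algebraMap R K).comp ψ)) := by
    simp only [gp, f, genPtOf, ← Spec.map_comp, ← CommRingCat.ofHom_comp]
  haveI : IsSeparated G.hom := Groth.Agent.AV.isSeparated_of_grpObj _
  obtain ⟨H, instH, j, u, hj, hjc, hflat, hlft, hqc, hsep, hu, huiso⟩ := exists_flat_model f hgf G U i
  haveI := hflat; haveI := hlft; haveI := hqc; haveI := hsep; haveI := hj; haveI := hjc; haveI := hu; haveI := huiso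
  haveI : LocallyOfFinitePresentation H.hom := Groth.L19.SpecSub.lfp_of_flat H
  -- the special fibre and its reduced identity component
  let Hk := Red.bc r H
  haveI : LocallyOfFiniteType Hk.hom := MorphismProperty.pullback_snd _ _ ‹LocallyOfFiniteType H.hom›
  haveI : QuasiCompact Hk.hom := MorphismProperty.pullback_snd _ _ ‹QuasiCompact H.hom›
  obtain ⟨U', gU', ρ, hρ, hρc, hsm, hcon, hdim⟩ := exists_idComp_perfect Hk
  haveI : IsPreimmersion gp := IsPreimmersion.of_isLocalization (R := R) (S := K) (nonZeroDivisors R)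
  haveI : IsClosedImmersion r := IsClosedImmersion.spec_of_surjective _ fun c => ⟨ψ c, hφψ c⟩
  haveI : IsLocalHom φ := ⟨fun x hx => by
    by_contra hn
    refine hx.ne_zero ?_
    by_contra hne
    refine hn (isUnit_of_mul_isUnit_left (y := ψ (φ x)⁻¹) ?_)
    by_contra h
    have h1 := hloc (x * ψ (φ x)⁻¹ - 1) (by rw [map_sub, map_mul, map_one, hφψ, mul_inv_cancel₀ hne, sub_self])
    have h2 : x * ψ (φ x)⁻¹ ∈ IsLocalRing.maximalIdeal R := h
    have h3 : x * ψ (φ x)⁻¹ - 1 ∈ IsLocalRing.maximalIdeal R := h1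
    exact (IsLocalRing.maximalIdeal.isMaximal R).ne_top (Ideal.eq_top_iff_one _ |>.2 (by
      simpa using sub_mem h2 h3))⟩
  have hdim' : topologicalKrullDim ↥(Red.bc gp H).left ≤ topologicalKrullDim ↥Hk.left := by
    have hr : ∀ (F : Type u) [Field F] (g : Spec (CommRingCat.of F) ⟶ Spec (CommRingCat.of R)),
        Set.range g = {g (IsLocalRing.closedPoint F)} := fun F _ g => by
      ext y
      refine ⟨?_, fun hy => ⟨_, hy.symm⟩⟩
      rintro ⟨x, rfl⟩
      rw [Subsingleton.elim x (IsLocalRing.closedPoint F)]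
      rfl
    show topologicalKrullDim ↥(pullback H.hom gp) ≤ topologicalKrullDim ↥(pullback H.hom r)
    rw [dim_pullback gp H _ (hr _ gp), dim_pullback r H _ (hr _ r)]
    let s₀ := r (IsLocalRing.closedPoint k)
    obtain ⟨n, hn⟩ := Groth.Lead.GrpFibreDim.exists_nat H s₀
    show Groth.Lead.GrpFibreDim.dim H _ ≤ Groth.Lead.GrpFibreDim.dim H s₀
    rw [hn]
    have hcl : IsLocalRing.closedPoint R = s₀ := (IsLocalRing.comap_closedPoint φ).symm
    have htop := (IsLocalRing.closedPoint_mem_iff ⟨_, Groth.Lead.GrpFibreDim.isOpen_le H n⟩).1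
      (show IsLocalRing.closedPoint R ∈ _ by rw [hcl]; exact hn.le)
    exact htop.ge (show gp (IsLocalRing.closedPoint K) ∈ (⊤ : TopologicalSpace.Opens _) from trivial)
  -- a valuation ring with algebraically closed fields
  let Kb := AlgebraicClosure K
  let φK : R →+* Kb := (algebraMap K Kb).comp (algebraMap R K)
  obtain ⟨V, g, hg, hgφ, -⟩ := exists_dominating_algebraic φK
  haveI : IsAlgClosed (IsLocalRing.ResidueField V) := Groth.L06.EmbLift.isAlgClosed_residueField V
  let kV := IsLocalRing.ResidueField V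
  let a : k →+* kV := ((algebraMap V kV).comp g).comp ψ
  let θV := Spec.map (CommRingCat.ofHom g)
  let θk := Spec.map (CommRingCat.ofHom a)
  let θK := Spec.map (CommRingCat.ofHom (algebraMap K Kb))
  have wK : genPtOf V Kb ≫ θV = θK ≫ gp := by
    simp only [θV, θK, gp, genPtOf, ← Spec.map_comp, ← CommRingCat.ofHom_comp]
    congr 2
  have wk : resClosed V ≫ θV = θk ≫ r := by
    simp only [θV, θk, r, resClosed, ← Spec.map_comp, ← CommRingCat.ofHom_comp]
    congr 2
    refine RingHom.ext fun x => ?_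
    have hx : ¬ IsUnit (x - ψ (φ x)) := hloc _ (by rw [map_sub, hφψ, sub_self])
    have h0 : algebraMap V kV (g (x - ψ (φ x))) = 0 :=
      (IsLocalRing.residue_eq_zero_iff _).2 fun h => hx (hg.map_nonunit _ h)
    rw [map_sub, map_sub, sub_eq_zero] at h0
    exact h0
  let HV := Red.bc θV H
  haveI : Flat HV.hom := MorphismProperty.pullback_snd _ _ ‹Flat H.hom›
  haveI : LocallyOfFinitePresentation HV.hom := MorphismProperty.pullback_snd _ _ ‹LocallyOfFinitePresentation H.hom›
  haveI : QuasiCompact HV.hom := MorphismProperty.pullback_snd _ _ ‹QuasiCompact H.hom›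
  haveI : IsSeparated HV.hom := MorphismProperty.pullback_snd _ _ ‹IsSeparated H.hom›
  obtain ⟨eK, heK, heK'⟩ := exists_iso_bc_bc wK H
  haveI := heK; haveI := heK'
  haveI : IsMonHom ((Over.pullback θK).map u) := Groth.L25.MonoClosed.isMonHom_pullbackMap _ _
  let w : Red.bc θK U ⟶ Red.bc (genPtOf V Kb) HV := (Over.pullback θK).map u ≫ eK.inv
  haveI : IsMonHom w := inferInstanceAs (IsMonHom (_ ≫ _))
  haveI : IsIso w := inferInstanceAs (IsIso (_ ≫ _))
  haveI : IsIso w.left := inferInstanceAs (IsIso ((Over.forget _).map w))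
  haveI : IsIso (inv w).left := inferInstanceAs (IsIso ((Over.forget _).map (inv w)))
  haveI := smooth_bc θK U
  haveI := isAffine_bc θK U
  haveI := connectedSpace_bc' θK U
  haveI : Smooth (Red.bc (genPtOf V Kb) HV).hom := by
    rw [← Over.w (inv w)]
    exact MorphismProperty.RespectsIso.precomp (P := @Smooth) _ _ inferInstance
  haveI : IsAffine (Red.bc (genPtOf V Kb) HV).left := IsAffine.of_isIso (inv w).left
  haveI : ConnectedSpace (Red.bc (genPtOf V Kb) HV).left :=
    (Scheme.homeoOfIso (asIso w.left)).surjective.connectedSpace (Scheme.homeoOfIso (asIso w.left)).continuous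
  have hnsV : Red.HasNoSubtorus Kb (Red.bc (genPtOf V Kb) HV) := by
    haveI : IsMonHom (inv w) := inferInstanceAs (IsMonHom (asIso w).inv)
    exact noSubtorus_mono (inv w) ((noSubtorus_bc_iff θK U).2 hns)
  -- the component over the algebraically closed residue field
  obtain ⟨ek, hek, hek'⟩ := exists_iso_bc_bc wk H
  haveI := hek; haveI := hek'; haveI := hρ; haveI := hρc; haveI := hsm; haveI := hcon
  haveI : IsMonHom ((Over.pullback θk).map ρ) := Groth.L25.MonoClosed.isMonHom_pullbackMap _ _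
  haveI : IsClosedImmersion ((Over.pullback θk).map ρ).left := isClosedImmersion_bc θk ρ
  let ρV : Red.bc θk U' ⟶ Red.bc (resClosed V) HV := (Over.pullback θk).map ρ ≫ ek.inv
  haveI : IsMonHom ρV := inferInstanceAs (IsMonHom (_ ≫ _))
  haveI : IsClosedImmersion ρV.left := isClosedImmersion_comp_iso ((Over.pullback θk).map ρ) ek.symm
  haveI : Mono ρV := Over.mono_of_mono_left ρV
  haveI := smooth_bc θk U'
  haveI := connectedSpace_bc' θk U'
  haveI : IsAffine (Red.bc θk U').left := isAffine_subgroup_special Kb (algebraMap V kV) HV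
    (inferInstanceAs (IsAffine (Red.bc (genPtOf V Kb) HV).left)) (Red.bc θk U') ρV
  have hns' := noSubtorus_special V Kb HV hnsV (Red.bc θk U') ρV
  haveI : QuasiCompact U'.hom := by rw [← Over.w ρ]; infer_instance
  haveI : IsSeparated U'.hom := Groth.Agent.AV.isSeparated_of_grpObj _
  haveI haff : IsAffine U'.left := by
    haveI : IsAffine (pullback U'.hom (Spec.map (CommRingCat.ofHom a))) :=
      inferInstanceAs (IsAffine (Red.bc θk U').left)
    exact isAffine_of_bc a U'.hom
  -- back into the group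
  obtain ⟨i', hi', hi'c⟩ := exists_hom_into f r hrf G j ρ
  refine ⟨U', gU', i', hi', hi'c, hsm, haff, hcon, noSubtorus_of_bc θk U' hns', hd.trans ?_⟩
  rw [hdim]
  refine le_trans (le_of_eq ?_) hdim'
  haveI : IsIso u.left := inferInstanceAs (IsIso ((Over.forget _).map u))
  exact IsHomeomorph.topologicalKrullDim_eq _ (Scheme.homeoOfIso (asIso u.left)).isHomeomorph

end Groth.L19.AffSpec
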