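import Groth.Agent.L19.AffSpec.TorsionFree
import Groth.Agent.L25.CentralLift.Etale
import Mathlib.AlgebraicGeometry.AlgClosed.Basic
import Mathlib.AlgebraicGeometry.Morphisms.UniversallyInjective
import Groth.Agent.L22.SchemeDim
import Groth.Agent.L27.TopInv.Sections
import Groth.Agent.L25.ConnIrred
import Mathlib.AlgebraicGeometry.FunctionField

/-!
# Power maps on function fields of groups
-/

set_option autoImplicit false
set_option backward.isDefEq.respectTransparency.types false
set_option linter.style.haveILetI false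
set_option linter.unusedSectionVars false

universe u

open CategoryTheory CategoryTheory.Limits MonoidalCategory CartesianMonoidalCategory MonObj GrpObj AlgebraicGeometry
open Groth.L25.CentralLift TopologicalSpace

noncomputable section

namespace Groth.L19.AffSpec

section Endo

variable {X Y : Scheme.{u}}

/-- the endomorphism of the stalk at a fixed point -/
def endo (f : X ⟶ X) (x : X) (h : f x = x) : X.presheaf.stalk x ⟶ X.presheaf.stalk x :=
  X.presheaf.stalkSpecializes (specializes_of_eq h) ≫ f.stalkMap x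

theorem endo_germ (f : X ⟶ X) (x : X) (h : f x = x) (U : X.Opens) (hx : x ∈ U) (s : Γ(X, U)) :
    endo f x h (X.presheaf.germ U x hx s) =
      X.presheaf.germ (f ⁻¹ᵁ U) x (show f x ∈ U by rw [h]; exact hx) (f.app U s) := by
  show f.stalkMap x (X.presheaf.stalkSpecializes _ (X.presheaf.germ U x hx s)) = _
  rw [TopCat.Presheaf.germ_stalkSpecializes_apply]
  exact f.germ_stalkMap_apply U x _ s

theorem endo_top (f : X ⟶ X) (x : X) (h : f x = x) (s : Γ(X, ⊤)) :
    endo f x h (X.presheaf.germ ⊤ x trivial s) = X.presheaf.germ ⊤ x trivial (f.appTop s) :=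
  endo_germ f x h ⊤ trivial s

/-- naturality in a map -/
theorem endo_stalkMap (f : X ⟶ X) (f' : Y ⟶ Y) (g : Y ⟶ X) (w : f' ≫ g = g ≫ f) (y : Y) (h' : f' y = y)
    (h : f (g y) = g y) (a : X.presheaf.stalk (g y)) :
    g.stalkMap y (endo f (g y) h a) = endo f' y h' (g.stalkMap y a) := by
  obtain ⟨U, hU, s, rfl⟩ := X.presheaf.exists_germ_eq a
  rw [endo_germ, Scheme.Hom.germ_stalkMap_apply, Scheme.Hom.germ_stalkMap_apply, endo_germ]
  have hy : y ∈ (f' ≫ g) ⁻¹ᵁ U := show g (f' y) ∈ U by rw [h']; exact hU
  refine ((Y.presheaf.germ_res_apply (eqToHom (congrArg (· ⁻¹ᵁ U) w)) y hy _).symm).trans ?_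
  have e : (f' ≫ g).app U s = Y.presheaf.map (eqToHom (congrArg (· ⁻¹ᵁ U) w)).op ((g ≫ f).app U s) :=
    ConcreteCategory.congr_hom (Scheme.Hom.congr_app w U) s
  exact congrArg (Y.presheaf.germ ((f' ≫ g) ⁻¹ᵁ U) y hy) e.symm

/-- naturality in specialisation -/
theorem endo_specializes (f : X ⟶ X) {z x : X} (hs : z ⤳ x) (hz : f z = z) (hx : f x = x)
    (a : X.presheaf.stalk x) :
    X.presheaf.stalkSpecializes hs (endo f x hx a) = endo f z hz (X.presheaf.stalkSpecializes hs a) := by
  obtain ⟨U, hU, s, rfl⟩ := X.presheaf.exists_germ_eq a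
  rw [endo_germ, TopCat.Presheaf.germ_stalkSpecializes_apply, TopCat.Presheaf.germ_stalkSpecializes_apply, endo_germ]

theorem endo_congr {f g : X ⟶ X} (e : f = g) (x : X) (hf : f x = x) (hg : g x = x) (a : X.presheaf.stalk x) :
    endo f x hf a = endo g x hg a := by subst e; rfl

theorem endo_comp (f g : X ⟶ X) (x : X) (hf : f x = x) (hg : g x = x) (a : X.presheaf.stalk x) :
    endo (f ≫ g) x (by rw [Scheme.Hom.comp_apply, hf, hg]) a = endo f x hf (endo g x hg a) := by
  obtain ⟨U, hU, s, rfl⟩ := X.presheaf.exists_germ_eq a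
  rw [endo_germ, endo_germ, endo_germ]
  rfl

theorem fromSpecStalk_endo (f : X ⟶ X) (x : X) (h : f x = x) :
    X.fromSpecStalk x ≫ f = Spec.map (endo f x h) ≫ X.fromSpecStalk x := by
  show _ = Spec.map (X.presheaf.stalkSpecializes _ ≫ f.stalkMap x) ≫ _
  rw [Spec.map_comp, Category.assoc, Scheme.SpecMap_stalkSpecializes_fromSpecStalk,
    Scheme.SpecMap_stalkMap_fromSpecStalk]

/-- a morphism fixing the generic point and the function field is the identity -/
theorem eq_id_of_endo [IsIntegral X] {S : Scheme.{u}} (s : X ⟶ S) [IsSeparated s] (f : X ⟶ X) (w : f ≫ s = s)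
    (h : f (genericPoint X) = genericPoint X) (he : ∀ a, endo f _ h a = a) : f = 𝟙 X := by
  have e : endo f _ h = 𝟙 _ := CommRingCat.hom_ext (RingHom.ext he)
  refine ext_of_fromSpecResidueField_eq _ _ s {genericPoint X} ?_ ?_ (w.trans (Category.id_comp s).symm)
  · rw [dense_iff_closure_eq]; exact genericPoint_spec X
  · rintro x rfl
    rw [Scheme.fromSpecResidueField, Category.assoc, Category.assoc, fromSpecStalk_endo f _ h, e, Spec.map_id,
      Category.id_comp, Category.comp_id]

end Endo

variable {k : Type u} [Field k]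

/-- constants in a stalk -/
def cstHom {X : Scheme.{u}} {R : Type u} [CommRing R] (f : X ⟶ Spec (CommRingCat.of R)) (x : X) :
    R →+* X.presheaf.stalk x :=
  (X.presheaf.germ ⊤ x trivial).hom.comp (f.appTop.hom.comp (Scheme.ΓSpecIso (CommRingCat.of R)).inv.hom)

theorem cstHom_apply {X : Scheme.{u}} {R : Type u} [CommRing R] (f : X ⟶ Spec (CommRingCat.of R)) (x : X) (c : R) :
    cstHom f x c = X.presheaf.germ ⊤ x trivial (f.appTop ((Scheme.ΓSpecIso (CommRingCat.of R)).inv c)) := rfl

theorem endo_cst {X : Scheme.{u}} {R : Type u} [CommRing R] (s : X ⟶ Spec (CommRingCat.of R)) (f : X ⟶ X)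
    (w : f ≫ s = s) (x : X) (h : f x = x) (c : R) : endo f x h (cstHom s x c) = cstHom s x c := by
  rw [cstHom_apply, endo_top]
  congr 1
  conv_rhs => rw [← w, Scheme.Hom.comp_appTop]
  rfl

/-- function fields of varieties: finitely generated, transcendence degree = dimension -/
theorem functionField_props {X : Scheme.{u}} [IsIntegral X] (f : X ⟶ Spec (CommRingCat.of k))
    [LocallyOfFiniteType f] :
    letI : Algebra k X.functionField := (cstHom f (genericPoint X)).toAlgebra
    Algebra.EssFiniteType k X.functionField ∧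
      ∃ n : ℕ, topologicalKrullDim X = (n : WithBot ℕ∞) ∧ Algebra.trdeg k X.functionField = n := by
  letI : X.Over (Spec (CommRingCat.of k)) := ⟨f⟩
  haveI : LocallyOfFiniteType (X ↘ Spec (CommRingCat.of k)) := ‹LocallyOfFiniteType f›
  letI : Algebra k X.functionField := (cstHom f (genericPoint X)).toAlgebra
  obtain ⟨_, ⟨U, hU, rfl⟩, hgen, -⟩ :=
    X.isBasis_affineOpens.exists_subset_of_mem_open (Set.mem_univ (genericPoint X)) isOpen_univ
  haveI : Nonempty U := ⟨⟨genericPoint X, hgen⟩⟩
  haveI := functionField_isFractionRing_of_isAffineOpen X U hU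
  let φ : k →+* Γ(X, U) := ((f.appLE ⊤ U le_top).hom).comp (Scheme.ΓSpecIso (CommRingCat.of k)).inv.hom
  have hft : φ.FiniteType :=
    (LocallyOfFiniteType.finiteType_appLE (f := f) (isAffineOpen_top _) hU le_top).comp
      (RingHom.FiniteType.of_surjective _
        (ConcreteCategory.bijective_of_isIso (Scheme.ΓSpecIso (CommRingCat.of k)).inv).2)
  letI : Algebra k Γ(X, U) := φ.toAlgebra
  haveI : Algebra.FiniteType k Γ(X, U) := hft
  haveI : IsScalarTower k Γ(X, U) X.functionField := IsScalarTower.of_algebraMap_eq fun c =>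
    (X.presheaf.germ_res_apply (homOfLE (le_top : U ≤ ⊤)) (genericPoint X) hgen _).symm
  refine ⟨?_, ?_⟩
  · haveI : Algebra.EssFiniteType Γ(X, U) X.functionField :=
      Algebra.EssFiniteType.of_isLocalization _ (nonZeroDivisors Γ(X, U))
    exact Algebra.EssFiniteType.comp k Γ(X, U) X.functionField
  · obtain ⟨n, hn, -, hUn⟩ := Groth.L22.SchemeDim.exists_dim_eq_trdeg k X
    refine ⟨n, hn, Groth.L22.AffineDim.trdeg_fractionRing k Γ(X, U) X.functionField ?_⟩
    rw [← Groth.L22.SchemeDim.topologicalKrullDim_affineOpen hU]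
    exact hUn U ⟨genericPoint X, hgen⟩

variable [IsAlgClosed k]

/-- injectivity on rational points gives universal injectivity -/
theorem universallyInjective_of_sections {X Y : Scheme.{u}} (f : Y ⟶ Spec (CommRingCat.of k))
    [LocallyOfFiniteType f] (g : X ⟶ Spec (CommRingCat.of k))
    (π : Y ⟶ X) (w : π ≫ g = f) [IsSeparated π] [LocallyOfFiniteType π]
    (hπ : ∀ a b : Spec (CommRingCat.of k) ⟶ Y, a ≫ f = 𝟙 _ → b ≫ f = 𝟙 _ → a ≫ π = b ≫ π → a = b) :
    UniversallyInjective π := by
  refine (UniversallyInjective.iff_diagonal π).2 ⟨?_⟩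
  rw [← Set.range_eq_univ]
  by_contra hne
  haveI : JacobsonSpace ↥(pullback π π) :=
    LocallyOfFiniteType.jacobsonSpace (pullback.fst π π ≫ f)
  obtain ⟨p, hp, hpc⟩ := nonempty_inter_closedPoints (X := ↥(pullback π π))
    (Set.nonempty_compl.mpr hne) (pullback.diagonal π).isClosedEmbedding.isClosed_range.isOpen_compl.isLocallyClosed
  apply hp
  let t := pointOfClosedPoint (pullback.fst π π ≫ f) p hpc
  have ht : t ≫ pullback.fst π π ≫ f = 𝟙 _ := pointOfClosedPoint_comp _ p hpc
  have ht' : (t ≫ pullback.snd π π) ≫ f = 𝟙 _ := by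
    rw [← ht, ← w, Category.assoc, pullback.condition_assoc]
  have hab : t ≫ pullback.fst π π = t ≫ pullback.snd π π :=
    hπ _ _ (by rw [Category.assoc, ht]) ht' (by rw [Category.assoc, Category.assoc, pullback.condition])
  have hd : t = (t ≫ pullback.fst π π) ≫ pullback.diagonal π := by
    apply pullback.hom_ext
    · simp
    · simpa using hab.symm
  refine ⟨(t ≫ pullback.fst π π) (IsLocalRing.closedPoint k), ?_⟩
  rw [← Scheme.Hom.comp_apply, ← hd]
  exact pointOfClosedPoint_apply _ p hpc _

local notation "U1" => 𝟙_ (Over (Spec (CommRingCat.of k)))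

variable (G : Over (Spec (CommRingCat.of k))) [GrpObj G] [Smooth G.hom]

/-- a smooth connected group over a field is integral -/
theorem isIntegral_group [ConnectedSpace G.left] : IsIntegral G.left := by
  haveI : IrreducibleSpace G.left := Groth.L25.ConnIrred.irreducibleSpace G
  haveI : IsReduced G.left := Groth.Agent.AV.isReduced_of_smooth_field G.hom
  exact isIntegral_of_irreducibleSpace_of_isReduced _

/-- the power map is etale near the origin -/
theorem one_mem_locus (n : ℕ) (hn : (n : k) ≠ 0) :
    (η[G] : U1 ⟶ G).left (IsLocalRing.closedPoint k) ∈ locus G n :=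
  central_mem_locus (𝟙 (Spec (CommRingCat.of k))) n hn (η[G]) fun Z q g => by
    have e : q ≫ η[G] = 1 := by
      rw [Hom.one_def]
      congr 1
      exact toUnit_unique _ _
    rw [e, _root_.one_mul, _root_.mul_one]

variable [ConnectedSpace G.left]

/-- the power map fixes the generic point -/
theorem pw_genericPoint (n : ℕ) (hn : (n : k) ≠ 0) :
    haveI := isIntegral_group G
    (pw G n).left (genericPoint G.left) = genericPoint G.left := by
  haveI := isIntegral_group G
  let O := locus G n
  let e := (η[G] : U1 ⟶ G).left (IsLocalRing.closedPoint k)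
  have he : e ∈ O := one_mem_locus G n hn
  let f := O.ι ≫ (pw G n).left
  haveI : Etale f := etale_locus n
  obtain ⟨z, hz, hfz⟩ := Flat.generalizingMap f ((genericPoint_spec G.left).specializes (y := f ⟨e, he⟩) trivial)
  have h1 : genericPoint G.left ⤳ O.ι z := (genericPoint_spec G.left).specializes trivial
  have h2 : (pw G n).left (genericPoint G.left) ⤳ genericPoint G.left := by
    have h3 := h1.map (pw G n).left.continuous
    rwa [show (pw G n).left (O.ι z) = genericPoint G.left from hfz] at h3
  exact (h2.antisymm ((genericPoint_spec G.left).specializes trivial)).eq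

/-- **With unique roots the power map is birational.** -/
theorem endo_pw_surjective [IsSeparated G.hom] (n : ℕ) (hn : (n : k) ≠ 0)
    (hinj : Function.Injective fun g : U1 ⟶ G => g ^ n) :
    haveI := isIntegral_group G
    Function.Surjective (endo (pw G n).left (genericPoint G.left) (pw_genericPoint G n hn)) := by
  haveI := isIntegral_group G
  let O := locus G n
  have he := one_mem_locus G n hn
  have hgen : genericPoint G.left ∈ O := ((genericPoint_spec G.left).specializes trivial).mem_open O.2 he
  let f := O.ι ≫ (pw G n).left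
  haveI : Etale f := etale_locus n
  haveI : LocallyOfFiniteType G.hom := inferInstance
  have hw : f ≫ G.hom = O.ι ≫ G.hom := by
    show (O.ι ≫ (pw G n).left) ≫ G.hom = _
    rw [Category.assoc, Over.w (pw G n)]
  haveI : IsSeparated f := by
    haveI : IsSeparated (f ≫ G.hom) := by rw [hw]; infer_instance
    exact IsSeparated.of_comp f G.hom
  haveI : UniversallyInjective f := by
    refine universallyInjective_of_sections (O.ι ≫ G.hom) G.hom f hw fun a b ha hb hab => ?_
    let a' : U1 ⟶ G := Over.homMk (a ≫ O.ι) (by rw [Category.assoc]; exact ha)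
    let b' : U1 ⟶ G := Over.homMk (b ≫ O.ι) (by rw [Category.assoc]; exact hb)
    have h1 : a' ≫ pw G n = b' ≫ pw G n := by
      apply Over.OverMorphism.ext
      show (a ≫ O.ι) ≫ (pw G n).left = (b ≫ O.ι) ≫ (pw G n).left
      rw [Category.assoc, Category.assoc]; exact hab
    exact (cancel_mono O.ι).1 (congrArg CommaMorphism.left (hinj (((comp_pow_id a' n).symm.trans h1).trans (comp_pow_id b' n))))
  haveI := Groth.L27.TopInv.isOpenImmersion_of_etale_univInjective f
  have hb : Function.Bijective (f.stalkMap ⟨genericPoint G.left, hgen⟩) := ConcreteCategory.bijective_of_isIso _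
  intro b
  obtain ⟨a, ha⟩ := hb.2 (O.ι.stalkMap ⟨genericPoint G.left, hgen⟩ b)
  obtain ⟨a', rfl⟩ : ∃ a', G.left.presheaf.stalkSpecializes (specializes_of_eq (pw_genericPoint G n hn)) a' = a :=
    (ConcreteCategory.bijective_of_isIso (G.left.presheaf.stalkCongr
      (Inseparable.of_eq (pw_genericPoint G n hn))).inv).2 a
  refine ⟨a', (ConcreteCategory.bijective_of_isIso (O.ι.stalkMap ⟨genericPoint G.left, hgen⟩)).1 ?_⟩
  rw [← ha, Scheme.Hom.stalkMap_comp]
  rfl

end Groth.L19.AffSpec
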