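import Mathlib.RingTheory.AlgebraicIndependent.TranscendenceBasis
import Mathlib.RingTheory.Valuation.ValuationRing
import Mathlib.FieldTheory.IntermediateField.Adjoin.Algebra
import Mathlib.RingTheory.Localization.Module
import Mathlib.LinearAlgebra.Dimension.Finite

/-!
# Endomorphisms of a residue field which lift to automorphisms are automorphisms

A valuation ring `V` with fraction field `K`, a `V`-algebra `A` with a map `e` to a finitely generated field `L/K` and
a surjection `ev` onto an extension `κ` of the residue field. Independent residues lift to independent elements,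
so an endomorphism of `κ` which comes from an automorphism of `L` has degree one.
-/

set_option autoImplicit false
set_option linter.style.haveILetI false

universe u

open scoped IntermediateField.algebraAdjoinAdjoin
open MvPolynomial

noncomputable section

namespace Groth.L19.AffSpec

variable {V K k A L κ : Type u} [CommRing V] [IsDomain V] [ValuationRing V] [Field K] [Algebra V K]
  [IsFractionRing V K] [Field k] [CommRing A] [Field L] [Algebra K L] [Field κ] [Algebra k κ]

/-- finitely many elements scaled into the valuation ring, one of them to `1` -/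
theorem exists_scale {σ : Type*} (s : Finset σ) (hs : s.Nonempty) (a : σ → K) (ha : ∀ i ∈ s, a i ≠ 0) :
    ∃ (c : K) (b : σ → V), c ≠ 0 ∧ (∀ i ∈ s, algebraMap V K (b i) * c = a i) ∧ ∃ i ∈ s, b i = 1 := by
  classical
  let v := ValuationRing.valuation V K
  obtain ⟨i₀, hi₀, hmax⟩ := s.exists_max_image (fun i => v (a i)) hs
  have hc : a i₀ ≠ 0 := ha i₀ hi₀
  have h : ∀ i, ∃ b : V, i ∈ s → algebraMap V K b * a i₀ = a i := fun i => by
    by_cases hi : i ∈ s
    · obtain ⟨b, hb⟩ := (ValuationRing.mem_integer_iff (A := V) (K := K) (a i / a i₀)).1 (by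
        show v (a i / a i₀) ≤ 1
        rw [map_div₀, div_le_one₀ (zero_lt_iff.2 ((v.ne_zero_iff).2 hc))]
        exact hmax i hi)
      exact ⟨b, fun _ => by rw [hb, div_mul_cancel₀ _ hc]⟩
    · exact ⟨0, fun h => absurd h hi⟩
  choose b hb using h
  refine ⟨a i₀, b, hc, hb, i₀, hi₀, IsFractionRing.injective V K ?_⟩
  rw [map_one]
  exact mul_right_cancel₀ hc ((hb i₀ hi₀).trans (_root_.one_mul _).symm)

variable (iV : V →+* A) (π : V →+* k) (e : A →+* L) (ev : A →+* κ)

/-- independent residues lift to independent elements -/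
theorem indep_lift (he : ∀ v, e (iV v) = algebraMap K L (algebraMap V K v))
    (hev : ∀ v, ev (iV v) = algebraMap k κ (π v)) (hker : ∀ a, e a = 0 → ev a = 0)
    {d : ℕ} {ι : Type*} [Fintype ι] (x : Fin d → A) (o : ι → A)
    (h : ∀ g : ι → MvPolynomial (Fin d) k, ∑ i, aeval (fun j => ev (x j)) (g i) * ev (o i) = 0 → g = 0)
    (f : ι → MvPolynomial (Fin d) K) (hf : ∑ i, aeval (fun j => e (x j)) (f i) * e (o i) = 0) : f = 0 := by
  classical
  by_contra hne
  let s : Finset (ι × (Fin d →₀ ℕ)) :=
    Finset.univ.biUnion fun i => (f i).support.image fun m => (i, m)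
  have hs : ∀ p, p ∈ s ↔ (f p.1).coeff p.2 ≠ 0 := fun p => by
    obtain ⟨i, m⟩ := p
    simp [s, MvPolynomial.mem_support_iff]
  have hsne : s.Nonempty := by
    by_contra hsn
    exact hne (funext fun i => MvPolynomial.ext _ _ fun m => by
      by_contra hm
      exact hsn ⟨(i, m), (hs _).2 hm⟩)
  obtain ⟨c, b, hc, hb, p₀, hp₀, hb₀⟩ := exists_scale (V := V) s hsne (fun p => (f p.1).coeff p.2) fun p hp => (hs p).1 hp
  let g : ι → MvPolynomial (Fin d) V := fun i => ∑ m ∈ (f i).support, monomial m (b (i, m))
  have hg : ∀ i, MvPolynomial.map (algebraMap V K) (g i) * C c = f i := fun i => by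
    conv_rhs => rw [(f i).as_sum]
    simp only [g, map_sum, Finset.sum_mul, map_monomial]
    refine Finset.sum_congr rfl fun m hm => ?_
    rw [mul_comm (monomial m _) (C c), C_mul_monomial, mul_comm c, hb (i, m) ((hs (i, m)).2 (mem_support_iff.1 hm))]
  let z : A := ∑ i, eval₂ iV x (g i) * o i
  have hez : algebraMap K L c * e z = 0 := by
    rw [← hf]
    simp only [z, map_sum, map_mul, Finset.mul_sum]
    refine Finset.sum_congr rfl fun i _ => ?_
    rw [← hg i, map_mul (aeval _), aeval_C]
    have h2 : aeval (fun j => e (x j)) (MvPolynomial.map (algebraMap V K) (g i)) = e (eval₂ iV x (g i)) := by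
      rw [aeval_def, eval₂_map, MvPolynomial.eval₂_comp_left e iV x (g i)]
      congr 1
      exact RingHom.ext fun v => (he v).symm
    rw [h2]
    ring
  have hz : ev z = 0 := hker z ((mul_eq_zero.1 hez).resolve_left ((map_ne_zero _).2 hc))
  have h0 := h (fun i => MvPolynomial.map π (g i)) (by
    refine Eq.trans ?_ hz
    simp only [z, map_sum, map_mul]
    refine Finset.sum_congr rfl fun i _ => ?_
    congr 1
    rw [aeval_def, eval₂_map, MvPolynomial.eval₂_comp_left ev iV x (g i)]
    congr 1
    exact RingHom.ext fun v => (hev v).symm)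
  obtain ⟨i₀, m₀⟩ := p₀
  have h1 := congrArg (fun q => MvPolynomial.coeff m₀ q) (congrFun h0 i₀)
  simp only [g, map_sum, map_monomial, coeff_sum, coeff_monomial, Pi.zero_apply, coeff_zero, Finset.sum_ite_eq'] at h1
  rw [if_pos (mem_support_iff.2 ((hs (i₀, m₀)).1 hp₀)), hb₀, map_one] at h1
  exact one_ne_zero h1

/-- products of powers of an element outside the image are independent over the image of an iterate -/
theorem exists_indep_iterate (τ : κ →+* κ) {w : κ} (hw : w ∉ Set.range τ) (n : ℕ) :
    ∃ (ι : Type) (_ : Fintype ι) (b : ι → κ), Fintype.card ι = 2 ^ n ∧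
      ∀ c : ι → κ, ∑ i, τ^[n] (c i) * b i = 0 → c = 0 := by
  induction n with
  | zero =>
    exact ⟨Unit, inferInstance, fun _ => 1, rfl, fun c hc => funext fun _ => by simpa using hc⟩
  | succ n ih =>
    obtain ⟨ι, _, b, hcard, hb⟩ := ih
    refine ⟨ι × Bool, inferInstance, fun p => τ (b p.1) * bif p.2 then w else 1,
      by rw [Fintype.card_prod, hcard, Fintype.card_bool, pow_succ], fun c hc => ?_⟩
    let P : Bool → κ := fun ε => ∑ i, τ^[n] (c (i, ε)) * b i
    have h : τ (P false) + τ (P true) * w = 0 := by
      rw [← hc, Fintype.sum_prod_type]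
      simp only [P, map_sum, map_mul, Finset.sum_mul, Fintype.sum_bool, Function.iterate_succ_apply',
        Bool.cond_true, Bool.cond_false, _root_.mul_one, Finset.sum_add_distrib]
      rw [add_comm]
      congr 1
      exact Finset.sum_congr rfl fun i _ => by ring
    have h1 : P true = 0 := by
      by_contra hne
      refine hw ⟨-(P false) / P true, ?_⟩
      rw [map_div₀, map_neg, div_eq_iff (fun h0 => hne (τ.injective (h0.trans (map_zero τ).symm)))]
      linear_combination -h
    have h2 : P false = 0 := τ.injective (by rw [map_zero]; simpa [h1] using h)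
    funext ⟨i, ε⟩
    cases ε
    · exact congrFun (hb _ h2) i
    · exact congrFun (hb _ h1) i

/-- **An endomorphism of the residue field which lifts to an automorphism is an automorphism.** -/
theorem surjective_of_lift (he : ∀ v, e (iV v) = algebraMap K L (algebraMap V K v))
    (hev : ∀ v, ev (iV v) = algebraMap k κ (π v)) (hker : ∀ a, e a = 0 → ev a = 0) (hevs : Function.Surjective ev)
    (ψ : A →+* A) (σ : L →ₐ[K] L) (hσs : Function.Surjective σ) (τ : κ →ₐ[k] κ)
    (hσ : ∀ a, e (ψ a) = σ (e a)) (hτ : ∀ a, ev (ψ a) = τ (ev a))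
    [Algebra.EssFiniteType K L] {d : ℕ} (hd : (d : Cardinal) ≤ Algebra.trdeg k κ) (hL : Algebra.trdeg K L ≤ d) :
    Function.Surjective τ := by
  classical
  obtain ⟨s, hs⟩ := exists_isTranscendenceBasis k κ
  obtain ⟨xb, hxb⟩ : ∃ xb : Fin d → κ, AlgebraicIndependent k xb := by
    rw [← hs.cardinalMk_eq_trdeg] at hd
    obtain ⟨φ⟩ : Nonempty (ULift.{u} (Fin d) ↪ s) := Cardinal.le_def _ _ |>.1 (by simpa using hd)
    exact ⟨_, hs.1.comp (fun j => φ ⟨j⟩) fun a b hab => congrArg ULift.down (φ.injective hab)⟩
  choose x hx using fun j => hevs (xb j)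
  let y : Fin d → L := fun j => e (x j)
  have hy : AlgebraicIndependent K y := by
    rw [algebraicIndependent_iff]
    intro p hp
    refine congrFun (indep_lift iV π e ev he hev hker x (fun _ : Unit => (1 : A)) (fun g hg => funext fun _ => ?_)
      (fun _ => p) (by simpa using hp)) ()
    exact algebraicIndependent_iff.1 hxb _ (by simpa [hx] using hg)
  have hbasis : IsTranscendenceBasis K y := hy.isTranscendenceBasis_of_lift_trdeg_le_of_finite (by simpa using hL)
  haveI := hbasis.isAlgebraic_field
  haveI : Algebra.EssFiniteType (IntermediateField.adjoin K (Set.range y)) L :=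
    Algebra.EssFiniteType.of_comp K _ _
  haveI : Module.Finite (IntermediateField.adjoin K (Set.range y)) L :=
    Algebra.finite_of_essFiniteType_of_isAlgebraic
  by_contra hns
  obtain ⟨w, hw⟩ := not_forall.1 hns
  let N := Module.finrank (IntermediateField.adjoin K (Set.range y)) L
  obtain ⟨ι, _, b, hcard, hb⟩ := exists_indep_iterate (τ : κ →+* κ) (w := w) (fun ⟨a, ha⟩ => hw ⟨a, ha⟩) N
  choose o ho using fun i => hevs (b i)
  choose v hv using fun i => (hσs.iterate N) (e (o i))
  have heψ : ∀ (n : ℕ) a, e (ψ^[n] a) = σ^[n] (e a) ∧ ev (ψ^[n] a) = τ^[n] (ev a) := fun n a => by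
    induction n with
    | zero => exact ⟨rfl, rfl⟩
    | succ n ih => simp only [Function.iterate_succ_apply', hσ, hτ, ih.1, ih.2, and_self]
  have key : ∀ f : ι → MvPolynomial (Fin d) K, ∑ i, aeval y (f i) * v i = 0 → f = 0 := fun f hf => by
    refine indep_lift iV π e ev he hev hker (fun j => ψ^[N] (x j)) o (fun g hg => ?_) f ?_
    · refine funext fun i => algebraicIndependent_iff.1 hxb _ (congrFun (hb (fun i => aeval xb (g i)) ?_) i)
      refine Eq.trans ?_ hg
      refine Finset.sum_congr rfl fun i _ => ?_
      rw [ho, show (τ : κ →+* κ)^[N] (aeval xb (g i)) = (τ ^ N) (aeval xb (g i)) by rw [AlgHom.coe_pow]; rfl,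
        comp_aeval_apply]
      congr 3
      funext j
      rw [AlgHom.coe_pow, (heψ N _).2, hx]
    · refine Eq.trans ?_ ((congrArg (σ ^ N) hf).trans (map_zero _))
      rw [map_sum]
      refine Finset.sum_congr rfl fun i _ => ?_
      rw [map_mul, comp_aeval_apply, AlgHom.coe_pow, hv]
      congr 3
      funext j
      exact (heψ N _).1
  have hli : LinearIndependent (Algebra.adjoin K (Set.range y)) v := by
    rw [Fintype.linearIndependent_iff]
    intro c hc
    have hex : ∀ i, ∃ p, aeval y p = (c i : L) := fun i => by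
      exact (Algebra.adjoin_range_eq_range_aeval K y).le (c i).2
    choose f hf using hex
    have h0 := key f (by
      refine Eq.trans (Finset.sum_congr rfl fun i _ => ?_) hc
      rw [hf, Subalgebra.smul_def, smul_eq_mul])
    intro i
    exact Subtype.ext (by rw [← hf i, h0]; simp)
  have hli' : LinearIndependent (IntermediateField.adjoin K (Set.range y)) v :=
    (LinearIndependent.iff_fractionRing (Algebra.adjoin K (Set.range y)) _).1 hli
  have hle := hli'.fintype_card_le_finrank
  rw [hcard] at hle
  exact absurd hle (Nat.lt_two_pow_self).not_ge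

end Groth.L19.AffSpec
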