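import Groth.Agent.L19.AffSpec.Special
import Groth.Agent.L19.SpecSub.Semicont
import Groth.Agent.L19.SpecSub.Derived

/-!
# Affine subgroups of geometric fibres specialise
-/

set_option autoImplicit false
set_option backward.isDefEq.respectTransparency.types false
set_option linter.style.haveILetI false

universe u

open CategoryTheory CategoryTheory.Limits MonoidalCategory CartesianMonoidalCategory MonObj GrpObj AlgebraicGeometry
open Groth.L19.SpecSub

noncomputable section

namespace Groth.L19.AffSpec

/-- What is needed of a property of groups for the semicontinuity among affine subgroups; the special subgroup is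
known to be smooth, connected and affine. -/
structure SpecAff (Q : GPred.{u}) : Prop where
  mono : ∀ {B : Scheme.{u}} {H H' : Over B} [GrpObj H] [GrpObj H'] (a : H' ⟶ H), IsMonHom a → Mono a → Q H → Q H'
  bc : ∀ {k k' : Type u} [Field k] [IsAlgClosed k] [Field k'] [IsAlgClosed k'] (φ : k →+* k') (_ : Function.Bijective φ)
    (H : Over (Spec (CommRingCat.of k))) [GrpObj H], Q H → Q (Red.bc (Spec.map (CommRingCat.ofHom φ)) H)
  spec : ∀ (V : Type u) [CommRing V] [IsDomain V] [ValuationRing V] (K : Type u) [Field K] [IsAlgClosed K] [Algebra V K]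
    [IsFractionRing V K] [IsAlgClosed (IsLocalRing.ResidueField V)]
    (H : Over (Spec (CommRingCat.of V))) [GrpObj H], Flat H.hom → LocallyOfFinitePresentation H.hom →
    QuasiCompact H.hom → QuasiSeparated H.hom →
    Smooth (Red.bc (genPtOf V K) H).hom → ConnectedSpace (Red.bc (genPtOf V K) H).left →
    IsAffine (Red.bc (genPtOf V K) H).left →
    ∀ (C : Over (Spec (CommRingCat.of (IsLocalRing.ResidueField V)))) [GrpObj C] (c : C ⟶ Red.bc (resClosed V) H),
    IsMonHom c → Mono c → IsClosedImmersion c.left → GeometricallyIrreducible C.hom → UniversallyOpen C.hom →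
    ∀ (R : Over (Spec (CommRingCat.of (IsLocalRing.ResidueField V)))) [GrpObj R] (jR : R ⟶ C),
    IsMonHom jR → IsClosedImmersion jR.left → Smooth R.hom → ConnectedSpace R.left → IsAffine R.left →
    Q (Red.bc (genPtOf V K) H) → Q R

/-- a specialisable property will do -/
theorem SpecAff.of_specialisable {Q : GPred.{u}} (h : Specialisable Q) : SpecAff Q := by
  refine ⟨h.mono, fun φ _ H _ => h.bc _ H, ?_⟩
  intro V _ _ _ K _ _ _ _ _ H _ hfl _ _ _ _ _ _ C _ c hc hm hcc hgi huo R _ jR hjR hjRc _ _ _ hq
  haveI : LocallyOfFinitePresentation H.hom := ‹_›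
  haveI : LocallyOfFiniteType (Red.bc (resClosed V) H).hom := MorphismProperty.pullback_snd _ _ inferInstance
  haveI : IsSeparated (Red.bc (resClosed V) H).hom := Groth.Agent.AV.isSeparated_of_grpObj _
  haveI : Mono jR := Over.mono_of_mono_left jR
  exact h.mono jR hjR inferInstance (h.spec V K _ (resClosed V) H hfl
    (inferInstanceAs (IsSeparated (Red.bc (resClosed V) H).hom)) C c hc hm hgi huo hq)

variable (Q : GPred.{u}) {S : Scheme.{u}} (G : Over S) [GrpObj G] (n : ℕ)

/-- the fibre at a field point has a smooth connected affine closed subgroup with `Q` of dimension at least `n` -/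
def HasGEA {F : Type u} [Field F] (x : Spec (CommRingCat.of F) ⟶ S) : Prop :=
  ∃ (H : Over (Spec (CommRingCat.of F))) (_ : GrpObj H) (i : H ⟶ Red.bc x G),
    IsMonHom i ∧ IsClosedImmersion i.left ∧ Smooth H.hom ∧ IsAffine H.left ∧ ConnectedSpace ↥H.left ∧ Q H ∧
      (n : WithBot ℕ∞) ≤ topologicalKrullDim ↥H.left

variable {Q G n}

theorem hasGEA_congr (hQ : SpecAff Q) {F F' : Type u} [Field F] [IsAlgClosed F] [Field F'] [IsAlgClosed F']
    (φ : F →+* F') (hφ : Function.Bijective φ) {x : Spec (CommRingCat.of F) ⟶ S} {x' : Spec (CommRingCat.of F') ⟶ S}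
    (hx : Spec.map (CommRingCat.ofHom φ) ≫ x = x') (h : HasGEA Q G n x) : HasGEA Q G n x' := by
  obtain ⟨H, inst, i, hi, hc, hs, haff, hcon, hq, hd⟩ := h
  let g := Spec.map (CommRingCat.ofHom φ)
  haveI : IsIso (CommRingCat.ofHom φ) := (ConcreteCategory.isIso_iff_bijective _).2 hφ
  haveI : IsIso g := inferInstance
  haveI := Groth.L25.LimHom.isMonHom_cmp hx G
  let e := Groth.L25.LimHom.cmp hx G
  let i' : Red.bc g H ⟶ Red.bc g (Red.bc x G) := (Over.pullback g).map i
  haveI : IsMonHom i' := inferInstanceAs (IsMonHom ((Over.pullback g).map i))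
  haveI : IsClosedImmersion i'.left := isClosedImmersion_bc g i
  haveI : IsAffine (Red.bc g H).left := inferInstanceAs (IsAffine (pullback H.hom g))
  let h := Scheme.homeoOfIso (asIso (pullback.fst H.hom g))
  refine ⟨Red.bc g H, inferInstance, i' ≫ e.hom, inferInstance, isClosedImmersion_comp_iso i' e, ?_, inferInstance, ?_,
    hQ.bc φ hφ H hq, ?_⟩
  · exact MorphismProperty.pullback_snd _ _ hs
  · exact h.symm.surjective.connectedSpace h.symm.continuous
  · exact hd.trans (le_of_eq (IsHomeomorph.topologicalKrullDim_eq _ h.isHomeomorph).symm)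

/-- The step along a valuation ring with algebraically closed residue field. -/
theorem val_stepA [LocallyOfFiniteType G.hom] [QuasiCompact G.hom] [QuasiSeparated G.hom] (hQ : SpecAff Q)
    {V : Type u} [CommRing V] [IsDomain V]
    [ValuationRing V] {K : Type u} [Field K] [IsAlgClosed K] [Algebra V K] [IsFractionRing V K]
    [IsAlgClosed (IsLocalRing.ResidueField V)] (f : Spec (CommRingCat.of V) ⟶ S)
    (h : HasGEA Q G n (genPtOf V K ≫ f)) : HasGEA Q G n (resClosed V ≫ f) := by
  obtain ⟨H₀, inst, i₀, hi₀, hc₀, hs₀, haff₀, hcon₀, hq, hd⟩ := h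
  let gp := genPtOf V K
  let G' := Red.bc f G
  let e₀ := Groth.L25.LimHom.cmp (rfl : gp ≫ f = gp ≫ f) G
  haveI : IsMonHom e₀.hom := Groth.L25.LimHom.isMonHom_cmp rfl G
  let i : H₀ ⟶ Red.bc gp G' := i₀ ≫ e₀.inv
  haveI : IsMonHom i := inferInstanceAs (IsMonHom (i₀ ≫ e₀.inv))
  haveI : IsClosedImmersion i.left := isClosedImmersion_comp_iso i₀ e₀.symm
  haveI : LocallyOfFiniteType G'.hom := MorphismProperty.pullback_snd _ _ ‹LocallyOfFiniteType G.hom›
  haveI : QuasiCompact G'.hom := MorphismProperty.pullback_snd _ _ ‹QuasiCompact G.hom›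
  haveI : QuasiSeparated G'.hom := MorphismProperty.pullback_snd _ _ ‹QuasiSeparated G.hom›
  obtain ⟨H, instH, j, φ, hj, hjc, hflat, sq, hφ, -⟩ := Groth.L19.SpecSub.exists_closure G' H₀ i
  haveI := hflat
  haveI : LocallyOfFiniteType H.hom := by rw [← Over.w j]; infer_instance
  haveI : QuasiCompact H.hom := by rw [← Over.w j]; infer_instance
  haveI : QuasiSeparated H.hom := by rw [← Over.w j]; infer_instance
  haveI : LocallyOfFinitePresentation H.hom := Groth.L19.SpecSub.lfp_of_flat H
  haveI : IsIso ((Over.forget _).map (Over.homMk sq.isoPullback.hom sq.isoPullback_hom_snd : H₀ ⟶ Red.bc gp H)) :=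
    inferInstanceAs (IsIso sq.isoPullback.hom)
  let u : H₀ ⟶ Red.bc gp H := Over.homMk sq.isoPullback.hom sq.isoPullback_hom_snd
  haveI : IsIso u := isIso_of_reflects_iso u (Over.forget _)
  haveI : IsIso u.left := inferInstanceAs (IsIso ((Over.forget _).map u))
  haveI : IsIso (inv u).left := inferInstanceAs (IsIso ((Over.forget _).map (inv u)))
  let jK : Red.bc gp H ⟶ Red.bc gp G' := (Over.pullback gp).map j
  haveI : IsMonHom jK := inferInstanceAs (IsMonHom ((Over.pullback gp).map j))
  haveI : IsClosedImmersion jK.left := isClosedImmersion_bc gp j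
  haveI : Mono jK := Over.mono_of_mono_left jK
  have hu : u ≫ jK = i := by
    apply Over.OverMorphism.ext
    apply pullback.hom_ext
    · rw [Over.comp_left, Category.assoc, Groth.Agent.NeronL.pb_map_fst, ← Category.assoc]
      exact (congrArg (· ≫ j.left) sq.isoPullback_hom_fst).trans hφ
    · rw [Over.comp_left, Category.assoc, Groth.Agent.NeronL.pb_map_snd]
      exact sq.isoPullback_hom_snd.trans (Over.w i).symm
  haveI : IsMonHom (u ≫ jK) := hu ▸ ‹IsMonHom i›
  haveI : IsMonHom u := isMonHom_of_fac u jK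
  have hqK : Q (Red.bc gp H) := hQ.mono (asIso u).inv (inferInstanceAs (IsMonHom (asIso u).inv)) inferInstance hq
  haveI hsK : Smooth (Red.bc gp H).hom := by
    rw [← Over.w (inv u)]
    exact MorphismProperty.RespectsIso.precomp (P := @Smooth) _ _ hs₀
  haveI hcK : ConnectedSpace (Red.bc gp H).left := by
    haveI := hcon₀
    exact (Scheme.homeoOfIso (asIso u.left)).surjective.connectedSpace (Scheme.homeoOfIso (asIso u.left)).continuous
  haveI haK : IsAffine (Red.bc gp H).left := by haveI := haff₀; exact IsAffine.of_isIso (inv u).left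
  let r := resClosed V
  haveI : LocallyOfFiniteType (Red.bc r H).hom := MorphismProperty.pullback_snd _ _ ‹LocallyOfFiniteType H.hom›
  haveI : IsSeparated (Red.bc r H).hom := Groth.Agent.AV.isSeparated_of_grpObj _
  obtain ⟨C, gC, R, gR, c, jR, hc, hcc, hjR, hjRc, hgi, huo, hsm, hconn, hdim⟩ := exists_idComp (Red.bc r H)
  haveI : Mono c := Over.mono_of_mono_left c
  haveI : IsClosedImmersion (jR ≫ c).left := by rw [Over.comp_left]; infer_instance
  haveI haR : IsAffine R.left := isAffine_subgroup_special K (algebraMap V (IsLocalRing.ResidueField V)) H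
    (inferInstanceAs (IsAffine (Red.bc gp H).left)) R (jR ≫ c)
  have hqR : Q R := hQ.spec V K H hflat inferInstance inferInstance inferInstance hsK hcK haK C c hc inferInstance hcc
    hgi huo R jR hjR hjRc hsm hconn haR hqK
  let e₁ := Groth.L25.LimHom.cmp (rfl : r ≫ f = r ≫ f) G
  haveI : IsMonHom e₁.hom := Groth.L25.LimHom.isMonHom_cmp rfl G
  let js : Red.bc r H ⟶ Red.bc r G' := (Over.pullback r).map j
  haveI : IsMonHom js := inferInstanceAs (IsMonHom ((Over.pullback r).map j))
  haveI : IsClosedImmersion js.left := isClosedImmersion_bc _ j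
  haveI : IsClosedImmersion (jR ≫ c ≫ js).left := by
    rw [Over.comp_left, Over.comp_left]
    infer_instance
  refine ⟨R, gR, (jR ≫ c ≫ js) ≫ e₁.hom, inferInstance, isClosedImmersion_comp_iso _ e₁, hsm, haR, hconn, hqR,
    hd.trans ?_⟩
  rw [hdim]
  haveI : IsPreimmersion gp := IsPreimmersion.of_isLocalization (R := V) (S := K) (nonZeroDivisors V)
  haveI : IsClosedImmersion r := IsClosedImmersion.spec_of_surjective _ IsLocalRing.residue_surjective
  have hr : ∀ (F : Type u) [Field F] (g : Spec (CommRingCat.of F) ⟶ Spec (CommRingCat.of V)),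
      Set.range g = {g (IsLocalRing.closedPoint F)} := fun F _ g => by
    ext y
    refine ⟨?_, fun hy => ⟨_, hy.symm⟩⟩
    rintro ⟨x, rfl⟩
    rw [Subsingleton.elim x (IsLocalRing.closedPoint F)]
    rfl
  rw [IsHomeomorph.topologicalKrullDim_eq _ (Scheme.homeoOfIso sq.isoPullback).isHomeomorph,
    dim_pullback gp H _ (hr _ gp)]
  show _ ≤ topologicalKrullDim ↥(pullback H.hom r)
  rw [dim_pullback r H _ (hr _ r)]
  let s₀ := r (IsLocalRing.closedPoint (IsLocalRing.ResidueField V))
  obtain ⟨m, hm⟩ := Groth.Lead.GrpFibreDim.exists_nat H s₀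
  show Groth.Lead.GrpFibreDim.dim H _ ≤ Groth.Lead.GrpFibreDim.dim H s₀
  rw [hm]
  haveI : IsLocalHom (algebraMap V (IsLocalRing.ResidueField V)) :=
    IsLocalHom.of_surjective _ IsLocalRing.residue_surjective
  have hcl : IsLocalRing.closedPoint V = s₀ := (IsLocalRing.comap_closedPoint _).symm
  have htop := (IsLocalRing.closedPoint_mem_iff ⟨_, Groth.Lead.GrpFibreDim.isOpen_le H m⟩).1
    (show IsLocalRing.closedPoint V ∈ _ by rw [hcl]; exact hm.le)
  exact htop.ge (show gp (IsLocalRing.closedPoint K) ∈ (⊤ : TopologicalSpace.Opens _) from trivial)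

/-- Specialisation on geometric fibres. -/
theorem stableA [LocallyOfFiniteType G.hom] [QuasiCompact G.hom] [QuasiSeparated G.hom] (hQ : SpecAff Q) :
    StableUnderSpecialization {s : ↥S | HasGEA Q G n (Red.geomPt s)} := by
  intro s s' hsp hs
  let L := AlgebraicClosure (S.residueField s)
  let φ : S.presheaf.stalk s' →+* L :=
    (algebraMap (S.residueField s) L).comp ((S.residue s).hom.comp (S.presheaf.stalkSpecializes hsp).hom)
  obtain ⟨V, g, hg, hgφ, hint⟩ := exists_dominating_algebraic φ
  haveI : IsAlgClosed (IsLocalRing.ResidueField V) := Groth.L06.EmbLift.isAlgClosed_residueField V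
  let f : Spec (CommRingCat.of V) ⟶ S := Spec.map (CommRingCat.ofHom g) ≫ S.fromSpecStalk s'
  have hgen : genPtOf V L ≫ f = Red.geomPt s := by
    have e : CommRingCat.ofHom g ≫ CommRingCat.ofHom (algebraMap V L) =
        S.presheaf.stalkSpecializes hsp ≫ S.residue s ≫ CommRingCat.ofHom (algebraMap (S.residueField s) L) := by
      apply CommRingCat.hom_ext
      exact hgφ
    simp only [f, genPtOf, Red.geomPt, Scheme.fromSpecResidueField, ← Spec.map_comp_assoc]
    rw [e, Spec.map_comp_assoc, Spec.map_comp_assoc, Scheme.SpecMap_stalkSpecializes_fromSpecStalk,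
      Spec.map_comp_assoc]
    rfl
  have h1 : HasGEA Q G n (resClosed V ≫ f) := val_stepA (K := L) hQ f (by rw [hgen]; exact hs)
  let ψ : S.residueField s' →+* IsLocalRing.ResidueField V := IsLocalRing.ResidueField.map g
  letI : Algebra (S.residueField s') (IsLocalRing.ResidueField V) := ψ.toAlgebra
  haveI : Algebra.IsAlgebraic (S.residueField s') (IsLocalRing.ResidueField V) :=
    ⟨fun t => IsIntegral.isAlgebraic (R := ↑(S.residueField s')) (show ψ.IsIntegralElem t from hint t)⟩
  haveI : IsAlgClosure (S.residueField s') (IsLocalRing.ResidueField V) := ⟨inferInstance, inferInstance⟩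
  let e : IsLocalRing.ResidueField V ≃ₐ[S.residueField s'] AlgebraicClosure (S.residueField s') :=
    IsAlgClosure.equiv (S.residueField s') (IsLocalRing.ResidueField V) (AlgebraicClosure (S.residueField s'))
  refine hasGEA_congr hQ e.toRingEquiv.toRingHom e.bijective ?_ h1
  have e' : CommRingCat.ofHom g ≫ CommRingCat.ofHom (algebraMap V (IsLocalRing.ResidueField V)) ≫
      CommRingCat.ofHom e.toRingEquiv.toRingHom =
      S.residue s' ≫ CommRingCat.ofHom (algebraMap (S.residueField s') (AlgebraicClosure (S.residueField s'))) := by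
    apply CommRingCat.hom_ext
    ext r
    exact (congrArg e (IsLocalRing.ResidueField.map_residue g r).symm).trans (e.commutes _)
  simp only [f, resClosed, Red.geomPt, Scheme.fromSpecResidueField, ← Spec.map_comp_assoc, Category.assoc]
  rw [e']
  rfl

end Groth.L19.AffSpec
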