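import Groth.Agent.L19.AffSpec.Crit
import Groth.Agent.L05.ModelFG
import Groth.Agent.L19.Limit.FlatStage
import Groth.Agent.L18.DominatingDVR
import Groth.Agent.L05.ModelGeneric.Main
import Groth.Agent.L13.PseudoComplete.Main
import Groth.Agent.L10.FormCat.Formal
import Groth.Agent.S0568
import Groth.Agent.L19.PicRat.Product
import Groth.Agent.L22.AffineDescent
import Groth.Agent.L20.ThickAffine
import Groth.Agent.L19.SpecSub.IdComp
import Groth.Agent.L08.Borel.Geom

/-!
# The identity component of a special fibre is affine when the generic fibre is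
-/

set_option autoImplicit false
set_option linter.style.haveILetI false
set_option linter.unusedSectionVars false
set_option backward.isDefEq.respectTransparency.types false

universe u

open CategoryTheory CategoryTheory.Limits MonoidalCategory CartesianMonoidalCategory MonObj GrpObj AlgebraicGeometry
open IsLocalRing

noncomputable section

namespace Groth.L19.AffSpec

/-- A complete discrete valuation ring over a given one with prescribed residue field extension. -/
theorem exists_complete_residue {R L : Type u} [CommRing R] [IsDomain R] [IsDiscreteValuationRing R] [Field L]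
    (ρ : R →+* L) [IsLocalHom ρ] :
    ∃ (B : Type u) (_ : CommRing B) (_ : IsDomain B) (_ : IsDiscreteValuationRing B) (j : R →+* B) (σ : B →+* L),
      Function.Injective j ∧ σ.comp j = ρ ∧ Function.Surjective σ ∧ IsLocalHom σ ∧
      IsAdicComplete (maximalIdeal B) B := by
  obtain ⟨π, hπ⟩ := IsDiscreteValuationRing.exists_irreducible R
  have hm : maximalIdeal R = Ideal.span {π} := hπ.maximalIdeal_eq
  obtain ⟨B, _, _, jB, σ, hσ, hlocB, -, hflat, hmax, hker, hσs, hnoeth⟩ :=
    Groth.L02.Gonflement.exists_flat_local_extension ρ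
  haveI := hnoeth inferInstance
  have ht : maximalIdeal B = Ideal.span {jB π} := by
    rw [← hmax, hm, Ideal.map_span, Set.image_singleton]
  have hreg : ∀ b, jB π * b = 0 → b = 0 := by
    intro b hb
    letI := jB.toAlgebra
    haveI : Module.Flat R B := hflat
    have hs : IsSMulRegular B π :=
      Module.Flat.isSMulRegular_of_isRegular (IsRegular.of_ne_zero hπ.ne_zero)
    exact hs (show π • b = π • (0 : B) by rw [Algebra.smul_def, smul_zero]; exact hb)
  obtain ⟨J, hJ, _, hdvr, hirr⟩ := Groth.L13.PseudoComplete.exists_dvr_quotient B (jB π) ht hreg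
  let C := B ⧸ J
  obtain ⟨_, hdvrA⟩ : ∃ _ : IsDomain (AdicCompletion (maximalIdeal C) C),
      IsDiscreteValuationRing (AdicCompletion (maximalIdeal C) C) := by
    haveI := Groth.L01.AnalUnram.isNoetherianRing_completion C
    rw [Groth.L01.CompletionReg.dvr_iff_regular_dim_one,
      ← Groth.L01.CompletionReg.isRegularLocalRing_iff_completion,
      Groth.L01.CompletionReg.ringKrullDim_completion, ← Groth.L01.CompletionReg.dvr_iff_regular_dim_one]
    exact ⟨inferInstance, hdvr⟩
  let Ch := AdicCompletion (maximalIdeal C) C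
  let ε : Ch →ₐ[C] C ⧸ maximalIdeal C := AdicCompletion.evalOneₐ (maximalIdeal C)
  have hεker : ∀ z, z ∈ maximalIdeal Ch ↔ ε z = 0 := fun z => by
    rw [AdicCompletion.maximalIdeal_eq_map, ← AdicCompletion.ker_evalOneₐ_eq_map _ (IsNoetherian.noetherian _)]
    rfl
  let σC : C →+* L := Ideal.Quotient.lift J σ fun x hx => RingHom.mem_ker.1 (hker ▸ hJ hx)
  let τ : C ⧸ maximalIdeal C →+* L := Ideal.Quotient.lift (maximalIdeal C) σC fun x hx => by
    rw [hirr.maximalIdeal_eq] at hx
    obtain ⟨c, rfl⟩ := Ideal.mem_span_singleton.1 hx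
    rw [map_mul]
    have hmem : jB π ∈ RingHom.ker σ := hker ▸ ht ▸ Ideal.mem_span_singleton_self _
    have : σC (Ideal.Quotient.mk J (jB π)) = 0 := RingHom.mem_ker.1 hmem
    rw [this, zero_mul]
  let j : R →+* Ch := (algebraMap C Ch).comp ((Ideal.Quotient.mk J).comp jB)
  have hof : Function.Injective (algebraMap C Ch) := AdicCompletion.of_injective (maximalIdeal C) C
  haveI : IsLocalRing Ch := inferInstance
  refine ⟨Ch, inferInstance, inferInstance, hdvrA, j, τ.comp ε.toRingHom, ?_, ?_, ?_, ?_, ?_⟩
  · exact Groth.L13.PseudoComplete.injective_of_irreducible j hπ fun h => hirr.ne_zero (hof (h.trans (map_zero _).symm))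
  · rw [← hσ]
    ext r
    show τ (ε (algebraMap C Ch (Ideal.Quotient.mk J (jB r)))) = _
    rw [AlgHom.commutes]
    rfl
  · intro l
    obtain ⟨b, rfl⟩ := hσs l
    refine ⟨algebraMap C Ch (Ideal.Quotient.mk J b), ?_⟩
    show τ (ε (algebraMap C Ch (Ideal.Quotient.mk J b))) = σ b
    rw [AlgHom.commutes]
    rfl
  · refine ⟨fun z hz => by_contra fun hn => hz.ne_zero ?_⟩
    show τ (ε z) = 0
    rw [(hεker z).1 ((mem_maximalIdeal z).2 hn), map_zero]
  · have := AdicCompletion.isAdicComplete_self (maximalIdeal C) (IsNoetherian.noetherian _)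
    rwa [← AdicCompletion.maximalIdeal_eq_map] at this

theorem isAffine_pullback_factor {X : Scheme.{u}} {A F F' : Type u} [CommRing A] [CommRing F] [CommRing F']
    (f : X ⟶ Spec (CommRingCat.of A)) (α : A →+* F) (β : F →+* F') (α' : A →+* F') (h : β.comp α = α')
    (haff : IsAffine (pullback f (Spec.map (CommRingCat.ofHom α)))) :
    IsAffine (pullback f (Spec.map (CommRingCat.ofHom α'))) := by
  subst h
  haveI := haff
  haveI : IsAffine (pullback (pullback.snd f (Spec.map (CommRingCat.ofHom α))) (Spec.map (CommRingCat.ofHom β))) :=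
    inferInstance
  exact IsAffine.of_isIso (pullbackLeftPullbackSndIso f (Spec.map (CommRingCat.ofHom α)) (Spec.map (CommRingCat.ofHom β)) ≪≫
    pullback.congrHom rfl (by rw [CommRingCat.ofHom_comp, Spec.map_comp])).inv

/-- affineness of the generic fibre gives affineness over any field containing the base -/
theorem isAffine_pullback_injective {X : Scheme.{u}} {A : Type u} [CommRing A] [IsDomain A] (F : Type u) [Field F]
    [Algebra A F] [IsFractionRing A F] (f : X ⟶ Spec (CommRingCat.of A))
    (haff : IsAffine (pullback f (Spec.map (CommRingCat.ofHom (algebraMap A F))))) {F' : Type u} [Field F']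
    (α' : A →+* F') (hi : Function.Injective α') : IsAffine (pullback f (Spec.map (CommRingCat.ofHom α'))) :=
  isAffine_pullback_factor f (algebraMap A F) (IsFractionRing.lift (g := α') hi) α'
    (RingHom.ext fun a => IsFractionRing.lift_algebraMap hi a) haff

/-- affineness descends along field extensions -/
theorem isAffine_of_bc {k Ω : Type u} [Field k] [Field Ω] (θf : k →+* Ω) {X : Scheme.{u}}
    (f : X ⟶ Spec (CommRingCat.of k)) [QuasiCompact f] [QuasiSeparated f]
    [IsAffine (pullback f (Spec.map (CommRingCat.ofHom θf)))] : IsAffine X := by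
  haveI : Flat (Spec.map (CommRingCat.ofHom θf)) := (HasRingHomProperty.Spec_iff (P := @Flat)).2 (by
    letI := θf.toAlgebra
    exact RingHom.flat_algebraMap_iff.2 inferInstance)
  haveI : Surjective (Spec.map (CommRingCat.ofHom θf)) := ⟨fun x => ⟨closedPoint Ω, Subsingleton.elim _ _⟩⟩
  haveI : CompactSpace X := QuasiCompact.compactSpace_of_compactSpace f
  haveI : QuasiSeparatedSpace X := quasiSeparatedSpace_of_quasiSeparated f
  exact Groth.L22.AffDesc.isAffine_of_isPullback (IsPullback.of_hasPullback f (Spec.map (CommRingCat.ofHom θf)))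

/-- Case of a complete discrete valuation ring with algebraically closed residue field, without group structure on the
scheme. -/
theorem isAffine_of_complete {B : Type u} [CommRing B] [IsDomain B] [IsDiscreteValuationRing B]
    [IsAdicComplete (maximalIdeal B) B] {Ω : Type u} [Field Ω] [IsAlgClosed Ω] (σ : B →+* Ω)
    (hσ : Function.Surjective σ) [IsLocalHom σ] {X : Scheme.{u}} (f : X ⟶ Spec (CommRingCat.of B))
    [LocallyOfFiniteType f] [Flat f] {π : B} (hπ : Irreducible π)
    (haff : IsAffineOpen (f ⁻¹ᵁ PrimeSpectrum.basicOpen π))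
    (G : Over (Spec (CommRingCat.of Ω))) [GrpObj G] [LocallyOfFiniteType G.hom] (e : G.left ⟶ X)
    (sq : IsPullback e G.hom f (Spec.map (CommRingCat.ofHom σ)))
    (R : Over (Spec (CommRingCat.of Ω))) [GrpObj R] [ConnectedSpace R.left] (j : R ⟶ G) [IsMonHom j]
    [IsClosedImmersion j.left] : IsAffine R.left := by
  obtain ⟨C, gC, c, hc, hcc, hcf, hrange, hgi, hcomp⟩ := Groth.Agent.S7520.result Ω G
  haveI : LocallyOfFiniteType C.hom := by rw [← Over.w c]; infer_instance
  haveI : IsLocallyNoetherian G.left := LocallyOfFiniteType.isLocallyNoetherian G.hom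
  haveI : IsOpenImmersion c.left := IsOpenImmersion.of_flat_of_mono c.left
  obtain ⟨S, gS, s, hs, hsc, hsm, hsurj, -⟩ := Groth.L08.Borel.exists_red_subgroup C
  haveI : Subsingleton (Spec (CommRingCat.of Ω)) := inferInstanceAs (Subsingleton (PrimeSpectrum Ω))
  haveI : Nonempty (Spec (CommRingCat.of Ω)) := ⟨closedPoint Ω⟩
  haveI : IrreducibleSpace C.left := by
    haveI : UniversallyOpen C.hom := inferInstance
    exact GeometricallyIrreducible.irreducibleSpace_of_subsingleton (f := C.hom)
  let es : S.left ≃ₜ C.left :=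
    (s.left.isEmbedding.toHomeomorph).trans
      ((Homeomorph.setCongr (Set.range_eq_univ.2 hsurj.surj)).trans (Homeomorph.Set.univ _))
  haveI : IrreducibleSpace S.left := by
    rw [irreducibleSpace_def, Set.top_eq_univ, ← es.symm.surjective.range_eq, ← Set.image_univ]
    exact (IrreducibleSpace.isIrreducible_univ C.left).image _ es.symm.continuous.continuousOn
  haveI : IsReduced S.left := Groth.Agent.AV.isReduced_of_smooth_field S.hom
  haveI : IsIntegral S.left := isIntegral_of_irreducibleSpace_of_isReduced S.left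
  haveI : CompactSpace S.left := by haveI := hcomp; exact es.symm.compactSpace
  haveI : QuasiCompact S.hom := HasAffineProperty.iff_of_isAffine.2 ‹CompactSpace S.left›
  haveI : IsSeparated S.hom := Groth.Agent.AV.isSeparated_of_grpObj _
  haveI : IsClosedImmersion (Spec.map (CommRingCat.ofHom σ)) := IsClosedImmersion.spec_of_surjective _ hσ
  haveI : IsClosedImmersion e := MorphismProperty.of_isPullback (P := @IsClosedImmersion) sq.flip inferInstance
  let cm : S.left ⟶ X := s.left ≫ c.left ≫ e
  haveI : IsClosedImmersion cm := inferInstanceAs (IsClosedImmersion (s.left ≫ c.left ≫ e))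
  have hcl : ∀ z, Spec.map (CommRingCat.ofHom σ) z = closedPoint B := fun z => by
    rw [Subsingleton.elim z (closedPoint Ω)]; exact IsLocalRing.comap_closedPoint σ
  let Wc : Set X := e '' (Set.range c.left)ᶜ
  have hWc : IsClosed Wc := e.isClosedEmbedding.isClosedMap _ c.left.isOpenEmbedding.isOpen_range.isClosed_compl
  let W : X.Opens := ⟨Wcᶜ, hWc.isOpen_compl⟩
  have hW : ∀ x ∈ W, f x = closedPoint B → x ∈ Set.range cm := fun x hx he => by
    obtain ⟨g, hg, -⟩ := Scheme.exists_preimage_of_isPullback sq x (closedPoint Ω) (by rw [hcl]; exact he)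
    obtain ⟨y, hy⟩ : g ∈ Set.range c.left := by_contra fun hn => hx ⟨g, hn, hg⟩
    exact ⟨es.symm y, by
      show e (c.left (es (es.symm y))) = x
      rw [es.apply_symm_apply, hy, hg]⟩
  have hcW : ∀ y, cm y ∈ W := fun y => by
    rintro ⟨g, hg, h⟩
    exact hg ⟨_, (e.isClosedEmbedding.injective h).symm⟩
  have hsp : ∀ y, f (cm y) = closedPoint B := fun y => by
    show (e ≫ f) (c.left (s.left y)) = _
    rw [sq.w]; exact hcl _
  haveI : IsAffine S.left := isAffine_of_isAlgebraic S (isAlgebraic_functionField (Groth.Agent.S0568.result B)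
    (Groth.L10.FormCat.isUniversallyCatenary_complete B) f hπ haff
    (Groth.L19.PicRat.isNormalScheme_of_smooth_field (Z := S)) cm hsp W hW hcW)
  haveI : IsAffine C.left := Groth.L20.ThickAffine.isAffine_of_surjective s.left hsurj.surj
  have hsub : Set.range j.left ⊆ Set.range c.left := by
    rw [hrange]
    exact (isConnected_range j.left.continuous).isPreconnected.subset_connectedComponent
      ⟨η[R].left (closedPoint Ω), congr(($(IsMonHom.one_hom (f := j))).left (closedPoint Ω))⟩
  have hfac := IsOpenImmersion.lift_fac c.left j.left hsub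
  haveI : IsClosedImmersion (IsOpenImmersion.lift c.left j.left hsub ≫ c.left) := hfac.symm ▸ ‹IsClosedImmersion j.left›
  haveI : IsClosedImmersion (IsOpenImmersion.lift c.left j.left hsub) := IsClosedImmersion.of_comp _ c.left
  exact isAffine_of_isAffineHom (IsOpenImmersion.lift c.left j.left hsub)

/-- two field extensions have a common algebraically closed one -/
theorem exists_common_field {A k k' : Type u} [CommRing A] [Field k] [Field k'] (a : A →+* k) (a' : A →+* k')
    (h : RingHom.ker a = RingHom.ker a') :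
    ∃ (Ω : Type u) (_ : Field Ω) (_ : IsAlgClosed Ω) (i : k →+* Ω) (i' : k' →+* Ω), i.comp a = i'.comp a' := by
  haveI : (RingHom.ker a).IsPrime := RingHom.ker_isPrime a
  let p := RingHom.ker a
  let k₀ := FractionRing (A ⧸ p)
  let b : k₀ →+* k := IsFractionRing.lift (g := Ideal.Quotient.lift p a fun _ h => h)
    (RingHom.kerLift_injective a)
  let b' : k₀ →+* k' := IsFractionRing.lift (g := Ideal.Quotient.lift p a' fun x hx => h.le hx) (by
    rw [injective_iff_map_eq_zero]
    intro x hx
    obtain ⟨x, rfl⟩ := Ideal.Quotient.mk_surjective x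
    exact Ideal.Quotient.eq_zero_iff_mem.2 (h.ge hx))
  have hb : ∀ x, b (algebraMap (A ⧸ p) k₀ (Ideal.Quotient.mk p x)) = a x := fun x => IsFractionRing.lift_algebraMap _ _
  have hb' : ∀ x, b' (algebraMap (A ⧸ p) k₀ (Ideal.Quotient.mk p x)) = a' x := fun x => IsFractionRing.lift_algebraMap _ _
  letI := b.toAlgebra
  letI := b'.toAlgebra
  obtain ⟨M, hM⟩ := Ideal.exists_maximal (TensorProduct k₀ k k')
  letI := Ideal.Quotient.field M
  let q := (algebraMap _ (AlgebraicClosure (TensorProduct k₀ k k' ⧸ M))).comp (Ideal.Quotient.mk M)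
  refine ⟨_, inferInstance, inferInstance,
    q.comp (Algebra.TensorProduct.includeLeftRingHom (R := k₀) (A := k) (B := k')),
    q.comp (Algebra.TensorProduct.includeRight (R := k₀) (A := k) (B := k')).toRingHom, RingHom.ext fun x => congrArg q ?_⟩
  have e1 : (Algebra.TensorProduct.includeLeftRingHom (R := k₀) (A := k) (B := k'))
      (algebraMap k₀ k (algebraMap (A ⧸ p) k₀ (Ideal.Quotient.mk p x))) = algebraMap k₀ _ _ := rfl
  have e2 : (Algebra.TensorProduct.includeRight (R := k₀) (A := k) (B := k'))
      (algebraMap k₀ k' (algebraMap (A ⧸ p) k₀ (Ideal.Quotient.mk p x))) = algebraMap k₀ _ _ :=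
    AlgHom.commutes _ _
  rw [show algebraMap k₀ k = b from rfl, hb] at e1
  rw [show algebraMap k₀ k' = b' from rfl, hb'] at e2
  exact e1.trans e2.symm

/-- a discrete valuation ring dominating a nonzero prime -/
theorem exists_dominating_dvr {A₀ : Type u} [CommRing A₀] [IsDomain A₀] [IsNoetherianRing A₀] (p : Ideal A₀) [p.IsPrime]
    (hp : p ≠ ⊥) :
    ∃ (W : Type u) (_ : CommRing W) (_ : IsDomain W) (_ : IsDiscreteValuationRing W) (θ₀ : A₀ →+* W),
      Function.Injective θ₀ ∧ RingHom.ker ((residue W).comp θ₀) = p := by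
  let F := FractionRing A₀
  let Ap := Localization.AtPrime p
  letI : Algebra Ap F := (IsLocalization.lift (M := p.primeCompl) (g := algebraMap A₀ F)
    fun s => isUnit_iff_ne_zero.2 ((map_ne_zero_iff _ (IsFractionRing.injective A₀ F)).2
      fun h => s.2 (h ▸ p.zero_mem))).toAlgebra
  haveI : IsScalarTower A₀ Ap F := IsScalarTower.of_algebraMap_eq fun r => (IsLocalization.lift_eq _ r).symm
  haveI : IsFractionRing Ap F := IsFractionRing.isFractionRing_of_isDomain_of_isLocalization p.primeCompl Ap F
  haveI : IsNoetherianRing Ap := IsLocalization.isNoetherianRing p.primeCompl Ap inferInstance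
  have hgen : Subfield.closure (Set.range (algebraMap Ap F) ∪ (∅ : Set F)) = ⊤ := by
    rw [eq_top_iff]
    intro z _
    obtain ⟨a, b, -, rfl⟩ := IsFractionRing.div_surjective (A := Ap) z
    exact div_mem (Subfield.subset_closure (Or.inl ⟨a, rfl⟩)) (Subfield.subset_closure (Or.inl ⟨b, rfl⟩))
  obtain ⟨W, hW, hWA, hWm⟩ := Groth.L18.exists_isDiscreteValuationRing_dominating (A := Ap) (L := F)
    Set.finite_empty hgen (by
      rw [(RingHom.injective_iff_ker_eq_bot _).1 (IsFractionRing.injective Ap F)]
      intro e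
      refine hp (eq_bot_iff.2 fun a ha => ?_)
      have h1 : algebraMap A₀ Ap a ∈ maximalIdeal Ap := (IsLocalization.AtPrime.to_map_mem_maximal_iff Ap p a).2 ha
      rw [← e, Ideal.mem_bot] at h1
      have h2 := congrArg (algebraMap Ap F) h1
      rw [← IsScalarTower.algebraMap_apply, map_zero] at h2
      exact IsFractionRing.injective A₀ F (h2.trans (map_zero _).symm))
  let θ₀ : A₀ →+* W := (algebraMap A₀ F).codRestrict W fun a => by
    rw [IsScalarTower.algebraMap_apply A₀ Ap F]; exact hWA _
  have hker : RingHom.ker ((residue W).comp θ₀) = p := by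
    ext a
    rw [RingHom.mem_ker, RingHom.comp_apply, residue_eq_zero_iff]
    constructor
    · intro ha
      by_contra hn
      have hu : IsUnit (algebraMap A₀ Ap a) := IsLocalization.map_units Ap (⟨a, hn⟩ : p.primeCompl)
      exact ha (by
        have h := hu.map ((algebraMap Ap F).codRestrict W hWA)
        have e : ((algebraMap Ap F).codRestrict W hWA) (algebraMap A₀ Ap a) = θ₀ a :=
          Subtype.ext (IsScalarTower.algebraMap_apply A₀ Ap F a).symm
        rwa [e] at h)
    · intro ha
      rw [W.valuation_lt_one_iff (θ₀ a)]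
      show W.valuation (algebraMap A₀ F a) < 1
      rw [IsScalarTower.algebraMap_apply A₀ Ap F]
      exact hWm _ ((IsLocalization.AtPrime.to_map_mem_maximal_iff Ap p a).2 ha)
  exact ⟨W, inferInstance, inferInstance, hW, θ₀,
    fun a b h => IsFractionRing.injective A₀ F (congrArg Subtype.val h), hker⟩

/-- the model is treated over a complete discrete valuation ring -/
theorem isAffine_over_dvr {A₀ : Type u} [CommRing A₀] [IsDomain A₀] [IsNoetherianRing A₀] {X₀ : Scheme.{u}}
    (f₀ : X₀ ⟶ Spec (CommRingCat.of A₀)) [Flat f₀] [LocallyOfFiniteType f₀]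
    (hF : IsAffine (pullback f₀ (Spec.map (CommRingCat.ofHom (algebraMap A₀ (FractionRing A₀))))))
    {k : Type u} [Field k] [IsAlgClosed k] (a₀ : A₀ →+* k) (hp : RingHom.ker a₀ ≠ ⊥)
    (G : Over (Spec (CommRingCat.of k))) [GrpObj G] [LocallyOfFiniteType G.hom] (g : G.left ⟶ X₀)
    (sqG : IsPullback g G.hom f₀ (Spec.map (CommRingCat.ofHom a₀)))
    (R : Over (Spec (CommRingCat.of k))) [GrpObj R] [Smooth R.hom] [ConnectedSpace R.left] [QuasiCompact R.hom]
    (j : R ⟶ G) [IsMonHom j] [IsClosedImmersion j.left] : IsAffine R.left := by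
  haveI : (RingHom.ker a₀).IsPrime := RingHom.ker_isPrime a₀
  obtain ⟨W, _, _, _, θ₀, hθ₀, hker⟩ := exists_dominating_dvr (RingHom.ker a₀) hp
  let F := FractionRing A₀
  obtain ⟨Ω, _, _, ιk, ιW, hι⟩ := exists_common_field a₀ ((residue W).comp θ₀) hker.symm
  haveI : IsLocalHom (ιW.comp (residue W)) :=
    ⟨fun w hw => by_contra fun hn => hw.ne_zero (by
      rw [RingHom.comp_apply, (residue_eq_zero_iff w).2 hn, map_zero])⟩
  obtain ⟨B, _, _, _, jB, σ, hjB, hσj, hσ, hσl, hBc⟩ := exists_complete_residue (ιW.comp (residue W))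
  haveI := hσl; haveI := hBc
  let θ : A₀ →+* B := jB.comp θ₀
  have hθ : Function.Injective θ := hjB.comp hθ₀
  have hσθ : σ.comp θ = ιk.comp a₀ := by rw [← RingHom.comp_assoc, hσj, hι, RingHom.comp_assoc]
  obtain ⟨π, hπ⟩ := IsDiscreteValuationRing.exists_irreducible B
  let fB := pullback.snd f₀ (Spec.map (CommRingCat.ofHom θ))
  haveI : Flat fB := MorphismProperty.pullback_snd _ _ ‹Flat f₀›
  have haff : IsAffineOpen (fB ⁻¹ᵁ PrimeSpectrum.basicOpen π) := by
    let FB := FractionRing B
    let gp := Spec.map (CommRingCat.ofHom (algebraMap B FB))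
    haveI : IsOpenImmersion gp := by
      haveI : IsLocalization.Away π FB := by
        exact Groth.L05.ModelGeneric.isLocalization_away B hπ FB
      exact IsOpenImmersion.of_isLocalization π
    have hr : gp.opensRange = PrimeSpectrum.basicOpen π := by
      haveI : IsLocalization.Away π FB := Groth.L05.ModelGeneric.isLocalization_away B hπ FB
      exact TopologicalSpace.Opens.ext (PrimeSpectrum.localization_away_comap_range FB π)
    haveI : IsAffine (pullback fB gp) := by
      have hi : Function.Injective ((algebraMap B FB).comp θ) := (IsFractionRing.injective B FB).comp hθ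
      haveI := isAffine_pullback_injective (FractionRing A₀) f₀ hF ((algebraMap B FB).comp θ) hi
      exact IsAffine.of_isIso ((pullbackLeftPullbackSndIso f₀ (Spec.map (CommRingCat.ofHom θ)) gp ≪≫
        pullback.congrHom rfl (show gp ≫ Spec.map (CommRingCat.ofHom θ) =
          Spec.map (CommRingCat.ofHom ((algebraMap B FB).comp θ)) by
            simp only [gp, θ, CommRingCat.ofHom_comp, Spec.map_comp, Category.assoc])).hom)
    have h := isAffineOpen_opensRange (pullback.fst fB gp)
    rwa [Scheme.Hom.opensRange_pullbackFst, hr] at h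
  let t := Spec.map (CommRingCat.ofHom ιk)
  let GΩ := Red.bc t G
  haveI : LocallyOfFiniteType GΩ.hom := inferInstanceAs (LocallyOfFiniteType (pullback.snd G.hom t))
  have sq3 := (IsPullback.of_hasPullback G.hom t).paste_horiz sqG
  rw [← Spec.map_comp, ← CommRingCat.ofHom_comp, ← hσθ,
    CommRingCat.ofHom_comp, Spec.map_comp] at sq3
  let e : GΩ.left ⟶ pullback f₀ (Spec.map (CommRingCat.ofHom θ)) :=
    pullback.lift _ (GΩ.hom ≫ Spec.map (CommRingCat.ofHom σ)) (by rw [sq3.w, Category.assoc]; rfl)
  have sqe : IsPullback e GΩ.hom fB (Spec.map (CommRingCat.ofHom σ)) :=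
    IsPullback.of_right (by rw [pullback.lift_fst]; exact sq3) (pullback.lift_snd _ _ _)
      (IsPullback.of_hasPullback f₀ (Spec.map (CommRingCat.ofHom θ)))
  haveI := Groth.L08.Borel.connectedSpace_bc' t R
  let jΩ : Red.bc t R ⟶ GΩ := (Over.pullback t).map j
  haveI : IsMonHom jΩ := inferInstanceAs (IsMonHom ((Over.pullback t).map j))
  haveI : IsClosedImmersion jΩ.left := Groth.L08.Borel.isClosedImmersion_map t j
  haveI : IsAffine (pullback R.hom (Spec.map (CommRingCat.ofHom ιk))) :=
    isAffine_of_complete σ hσ fB hπ haff GΩ e sqe (Red.bc t R) jΩ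
  haveI : IsSeparated R.hom := Groth.Agent.AV.isSeparated_of_grpObj _
  exact isAffine_of_bc ιk R.hom

variable {V : Type u} [CommRing V] [IsDomain V] (K : Type u) [Field K] [Algebra V K] [IsFractionRing V K]

/-- the generic fibre of a model is affine -/
theorem isAffine_model_generic {A₀ : Type u} [CommRing A₀] [IsDomain A₀] (i₀ : A₀ →+* V) (hi₀ : Function.Injective i₀)
    {X₀ X : Scheme.{u}} (f₀ : X₀ ⟶ Spec (CommRingCat.of A₀)) [QuasiCompact f₀] [QuasiSeparated f₀]
    (f : X ⟶ Spec (CommRingCat.of V)) (g : X ⟶ X₀) (sq : IsPullback g f f₀ (Spec.map (CommRingCat.ofHom i₀)))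
    (hK : IsAffine (pullback f (Spec.map (CommRingCat.ofHom (algebraMap V K))))) :
    IsAffine (pullback f₀ (Spec.map (CommRingCat.ofHom (algebraMap A₀ (FractionRing A₀))))) := by
  haveI := hK
  let iK : A₀ →+* K := (algebraMap V K).comp i₀
  have hiK : Function.Injective iK := (IsFractionRing.injective V K).comp hi₀
  let bF : FractionRing A₀ →+* K := IsFractionRing.lift hiK
  have hbF : bF.comp (algebraMap A₀ (FractionRing A₀)) = iK := RingHom.ext fun a => IsFractionRing.lift_algebraMap hiK a
  have e1 := (IsPullback.of_hasPullback f (Spec.map (CommRingCat.ofHom (algebraMap V K)))).paste_horiz sq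
  rw [← Spec.map_comp, ← CommRingCat.ofHom_comp, show (algebraMap V K).comp i₀ = iK from rfl, ← hbF,
    CommRingCat.ofHom_comp, Spec.map_comp] at e1
  haveI : IsAffine (pullback (pullback.snd f₀ (Spec.map (CommRingCat.ofHom (algebraMap A₀ (FractionRing A₀)))))
      (Spec.map (CommRingCat.ofHom bF))) :=
    IsAffine.of_isIso ((pullbackLeftPullbackSndIso _ _ _) ≪≫ e1.isoPullback.symm).hom
  exact isAffine_of_bc bF (pullback.snd f₀ (Spec.map (CommRingCat.ofHom (algebraMap A₀ (FractionRing A₀)))))

/-- **The identity component of a special fibre is affine.** -/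
theorem isAffine_subgroup_special {k : Type u} [Field k] [IsAlgClosed k] (φ : V →+* k)
    (H : Over (Spec (CommRingCat.of V))) [GrpObj H] [Flat H.hom] [LocallyOfFinitePresentation H.hom]
    [QuasiCompact H.hom] [QuasiSeparated H.hom]
    (hK : IsAffine (pullback H.hom (Spec.map (CommRingCat.ofHom (algebraMap V K)))))
    (R : Over (Spec (CommRingCat.of k))) [GrpObj R] [Smooth R.hom] [ConnectedSpace R.left]
    (j : R ⟶ Red.bc (Spec.map (CommRingCat.ofHom φ)) H) [IsMonHom j] [IsClosedImmersion j.left] :
    IsAffine R.left := by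
  obtain ⟨A₀, hA₀, X₀, f₀, g, hflat, hlfp, hqc, sq⟩ :=
    Groth.L05.ModelFG.exists_model V Groth.L19.Limit.descends_flat H.hom ‹Flat H.hom›
  haveI : Algebra.FiniteType ℤ A₀ := (Subalgebra.fg_iff_finiteType A₀).1 hA₀
  haveI : IsNoetherianRing A₀ := Algebra.FiniteType.isNoetherianRing ℤ A₀
  haveI := hflat; haveI := hlfp; haveI := hqc
  haveI : IsLocallyNoetherian X₀ := LocallyOfFiniteType.isLocallyNoetherian f₀
  haveI : QuasiSeparated f₀ := HasAffineProperty.iff_of_isAffine.2 (inferInstanceAs (QuasiSeparatedSpace X₀))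
  let i₀ := algebraMap A₀ V
  have hi₀ : Function.Injective i₀ := fun a b h => Subtype.ext h
  have hF := isAffine_model_generic K i₀ hi₀ f₀ H.hom g sq hK
  let G := Red.bc (Spec.map (CommRingCat.ofHom φ)) H
  haveI : LocallyOfFiniteType G.hom := inferInstanceAs (LocallyOfFiniteType (pullback.snd H.hom _))
  let a₀ : A₀ →+* k := φ.comp i₀
  have sqG := (IsPullback.of_hasPullback H.hom (Spec.map (CommRingCat.ofHom φ))).paste_horiz sq
  rw [← Spec.map_comp, ← CommRingCat.ofHom_comp] at sqG
  by_cases hp : RingHom.ker a₀ = ⊥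
  · have hi : Function.Injective a₀ := (RingHom.injective_iff_ker_eq_bot a₀).2 hp
    haveI := isAffine_pullback_injective (FractionRing A₀) f₀ hF a₀ hi
    haveI : IsAffine G.left := IsAffine.of_isIso sqG.isoPullback.hom
    exact isAffine_of_isAffineHom j.left
  haveI : QuasiCompact G.hom := MorphismProperty.pullback_snd _ _ ‹QuasiCompact H.hom›
  haveI : QuasiCompact R.hom := by rw [← Over.w j]; infer_instance
  exact isAffine_over_dvr f₀ hF a₀ hp G (pullback.fst H.hom (Spec.map (CommRingCat.ofHom φ)) ≫ g) sqG R j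

end Groth.L19.AffSpec
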