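import Groth.Agent.L08.UnipMult
import Groth.Agent.L08.Borel.ConstHom
import Groth.Agent.L08.Borel.GenNilp
import Groth.Agent.L08.Borel.DimTorus
import Groth.Agent.L08.Borel.TorsNhd
import Mathlib.GroupTheory.Nilpotent

/-!
# Unique roots in unipotent groups; torsion points of tori
-/

set_option autoImplicit false
set_option backward.isDefEq.respectTransparency.types false
set_option linter.style.haveILetI false
set_option linter.unusedSectionVars false

universe u

open CategoryTheory CategoryTheory.Limits MonoidalCategory CartesianMonoidalCategory MonObj GrpObj AlgebraicGeometry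
open Groth.L08.Borel Groth.L08.AlbLarge

noncomputable section

namespace Groth.L19.AffSpec

/-- if `a ^ n` commutes with `b` then so does `a`, in a nilpotent group without `n`-torsion -/
theorem commute_of_pow_commute {G : Type*} [Group G] [Group.IsNilpotent G] {n : ℕ}
    (tf : ∀ x : G, x ^ n = 1 → x = 1) {a b : G} (h : Commute (a ^ n) b) : Commute a b := by
  suffices key : ∀ i, ∀ b ∈ Subgroup.upperCentralSeries G i, Commute (a ^ n) b → Commute a b by
    exact key _ b (Subgroup.upperCentralSeries_nilpotencyClass (G := G) ▸ Subgroup.mem_top b) h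
  intro i
  induction i with
  | zero =>
    intro b hb _
    rw [Subgroup.upperCentralSeries_zero, Subgroup.mem_bot] at hb
    rw [hb]
    exact Commute.one_right a
  | succ i ih =>
    intro b hb h
    have hc : b * a * b⁻¹ * a⁻¹ ∈ Subgroup.upperCentralSeries G i :=
      Subgroup.mem_upperCentralSeries_succ_iff.1 hb a
    have h1 : Commute (a ^ n) (b * a * b⁻¹ * a⁻¹) :=
      ((h.mul_right ((Commute.refl a).pow_left n)).mul_right h.inv_right).mul_right ((Commute.refl a).pow_left n).inv_right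
    have h2 : Commute a (b * a * b⁻¹ * a⁻¹) := ih _ hc h1
    have h3 : (b * a * b⁻¹ * a⁻¹) ^ n = 1 := by
      have e : b * a * b⁻¹ = (b * a * b⁻¹ * a⁻¹) * a := by rw [inv_mul_cancel_right]
      have e2 := congrArg (· ^ n) e
      rw [conj_pow, (Commute.symm h2).mul_pow, h.symm.eq, mul_inv_cancel_right] at e2
      exact right_eq_mul.1 e2
    have h4 := tf _ h3
    rw [mul_inv_eq_one, mul_inv_eq_iff_eq_mul] at h4
    exact h4.symm

/-- roots are unique in a nilpotent group without torsion -/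
theorem pow_injective_of_nilpotent {G : Type*} [Group G] [Group.IsNilpotent G] {n : ℕ}
    (tf : ∀ x : G, x ^ n = 1 → x = 1) : Function.Injective fun x : G => x ^ n := fun x y h => by
  have h1 : Commute x y := commute_of_pow_commute tf (by rw [show x ^ n = y ^ n from h]; exact (Commute.refl y).pow_left n)
  refine inv_mul_eq_one.1 (tf (x⁻¹ * y) ?_)
  rw [h1.inv_left.mul_pow, inv_pow, show x ^ n = y ^ n from h, inv_mul_cancel]

/-- constant groups are of multiplicative type where roots of unity exist -/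
theorem isMultTypeFT_cst {V : Scheme.{u}} {n r : ℕ} [NeZero n] (z : Γ(V, ⊤)) (hz : z ^ n = 1)
    (hprim : ∀ v : V, IsPrimitiveRoot (evalAt v z) n) (hn : IsUnit (n : Γ(V, ⊤))) : SGA3x.IsMultTypeFT (cst V n r) := by
  refine ⟨V, 𝟙 V, inferInstance, inferInstance, fun U hU => ⟨U, hU.isCompact, by simp⟩, fun v => ⟨⊤, trivial, ?_⟩⟩
  haveI := isIso_rootMap r z hz hprim hn
  haveI : IsMonHom (rootMap r z hz) := isMonHom_ofPts _
  let j := (⊤ : V.Opens).ι ≫ 𝟙 V
  haveI : IsMonHom ((Over.pullback j).map (rootMap r z hz)) :=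
    Functor.map.instIsMonHom (F := Over.pullback j) (f := rootMap r z hz)
  haveI : IsIso ((Over.pullback j).map (rootMap r z hz) ≫ (Groth.L25.SplitSub.bcDS j).hom) := inferInstance
  haveI : IsMonHom (asIso ((Over.pullback j).map (rootMap r z hz) ≫ (Groth.L25.SplitSub.bcDS j).hom)).hom :=
    inferInstanceAs (IsMonHom (_ ≫ _))
  exact ⟨Vec n r, inferInstance, AddGroup.fg_of_finite, ⟨Grp.mkIso' (asIso ((Over.pullback j).map (rootMap r z hz) ≫
    (Groth.L25.SplitSub.bcDS j).hom))⟩⟩

variable {k : Type u} [Field k] [IsAlgClosed k]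

local notation "U1" => 𝟙_ (Over (Spec (CommRingCat.of k)))

/-- connected smooth groups without subtori have nilpotent groups of points -/
theorem nilpotent_of_noSubtorus (U : Over (Spec (CommRingCat.of k))) [GrpObj U] [Smooth U.hom] [QuasiCompact U.hom]
    [ConnectedSpace U.left] (h : Red.HasNoSubtorus k U) : Group.IsNilpotent (U1 ⟶ U) := by
  refine nilpotent_of_unique (unique_of_central fun T _ j _ _ hT X t g => ?_)
  haveI : IsIso T.hom := h T j hT
  have ht : t = 1 := Over.OverMorphism.ext ((cancel_mono T.hom).1 ((Over.w t).trans (Over.w _).symm))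
  rw [ht, MonObj.one_comp, _root_.one_mul, _root_.mul_one]

/-- points of order invertible in the field are trivial in unipotent groups -/
theorem eq_one_of_pow {U : Over (Spec (CommRingCat.of k))} [GrpObj U] [IsAffine U.left] [Smooth U.hom]
    [ConnectedSpace U.left] (h : Red.HasNoSubtorus k U) {n : ℕ} (hn : (n : k) ≠ 0) (g : U1 ⟶ U) (hg : g ^ n = 1) :
    g = 1 := by
  haveI : NeZero n := ⟨fun h0 => hn (by rw [h0, Nat.cast_zero])⟩
  haveI : NeZero (n : k) := ⟨hn⟩
  obtain ⟨ζ, hζ⟩ := HasEnoughRootsOfUnity.exists_primitiveRoot k n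
  let V := Spec (CommRingCat.of k)
  let z : Γ(V, ⊤) := (Scheme.ΓSpecIso (CommRingCat.of k)).inv ζ
  have hz : z ^ n = 1 := by rw [← map_pow, hζ.pow_eq_one, map_one]
  have hM : SGA3x.IsMultTypeFT (cst V n 1) := isMultTypeFT_cst z hz (fun v => by
      exact hζ.map_of_injective (f := (evalAt v).comp (Scheme.ΓSpecIso (CommRingCat.of k)).inv.hom) (RingHom.injective _))
    (by
      have := (isUnit_iff_ne_zero.2 hn).map (Scheme.ΓSpecIso (CommRingCat.of k)).inv.hom
      rwa [map_natCast] at this)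
  obtain ⟨μc, hμ, hμg, -⟩ := exists_cst_hom (fun _ : Fin 1 => g) (fun _ => hg) fun _ _ => Commute.refl g
  haveI := hμ
  obtain ⟨a, ha⟩ := hμg 0
  have h1 : μc = 1 := Groth.L08.UnipMult.hom_eq_one h hM μc
  rw [← ha, h1, MonObj.comp_one]

/-- nontrivial tori have torsion points of any invertible order -/
theorem exists_torsion_of_torus {T : Over (Spec (CommRingCat.of k))} [GrpObj T] (hT : Red.IsTorus T)
    (hnt : ¬ Red.IsTrivialGrp T) {n : ℕ} (hn : (n : k) ≠ 0) (hn1 : n ≠ 1) : ∃ t : U1 ⟶ T, t ^ n = 1 ∧ t ≠ 1 := by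
  obtain ⟨r, ⟨E⟩⟩ := exists_split_rank hT
  let e : T ≅ Red.DS (Spec (CommRingCat.of k)) (Fin r → ℤ) := (Grp.forget _).mapIso E
  haveI : IsMonHom e.inv := E.inv.hom.isMonHom_hom
  have hr : r ≠ 0 := by
    rintro rfl
    refine hnt ?_
    haveI : IsIso (toUnit T) := ⟨η[T], by
      rw [← cancel_mono e.hom]
      exact Groth.L25.DSPts.char_injective (MonoidHom.ext fun x => by
        rw [show x = 1 from Subsingleton.elim _ _, map_one, map_one]), toUnit_unique _ _⟩
    show IsIso T.hom
    exact inferInstanceAs (IsIso ((Over.forget _).map (toUnit T)))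
  haveI : NeZero n := ⟨fun h0 => hn (by rw [h0, Nat.cast_zero])⟩
  haveI : NeZero (n : k) := ⟨hn⟩
  obtain ⟨ζ, hζ⟩ := HasEnoughRootsOfUnity.exists_primitiveRoot k n
  have hζ0 : ζ ≠ 0 := hζ.ne_zero (NeZero.ne n)
  let i : Fin r := ⟨0, Nat.pos_of_ne_zero hr⟩
  let ι0 : kˣ →* Γ((U1).left, ⊤) :=
    ((Scheme.ΓSpecIso (CommRingCat.of k)).inv.hom.toMonoidHom).comp (Units.coeHom k)
  let χ : Multiplicative (Fin r → ℤ) →* Γ((U1).left, ⊤) :=
    ι0.comp ((zpowersHom kˣ (Units.mk0 ζ hζ0)).comp (AddMonoidHom.toMultiplicative (Pi.evalAddMonoidHom (fun _ : Fin r => ℤ) i)))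
  let p : U1 ⟶ Red.DS (Spec (CommRingCat.of k)) (Fin r → ℤ) := Groth.L25.DSPts.pt χ
  have hpn : p ^ n = 1 := by
    refine Groth.L25.DSPts.char_injective ?_
    rw [Groth.L25.DSPts.char_one]
    have : ∀ m, Groth.L25.DSPts.char (p ^ m) = χ ^ m := fun m => by
      induction m with
      | zero => rw [pow_zero, pow_zero, Groth.L25.DSPts.char_one]
      | succ m ih => rw [pow_succ, pow_succ, Groth.L25.DSPts.char_mul, ih, Groth.L25.DSPts.char_pt]
    rw [this]
    refine MonoidHom.ext fun x => ?_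
    show (ι0 (Units.mk0 ζ hζ0 ^ (Multiplicative.toAdd x i))) ^ n = 1
    have h1 : Units.mk0 ζ hζ0 ^ n = 1 := Units.ext (by simpa using hζ.pow_eq_one)
    rw [← map_pow, ← zpow_natCast, ← zpow_mul, mul_comm, zpow_mul, zpow_natCast, h1, one_zpow, map_one]
  refine ⟨p ≫ e.inv, by rw [← MonObj.pow_comp, hpn, MonObj.one_comp], fun h => hn1 ?_⟩
  have hp1 : p = 1 := by rw [← cancel_mono e.inv, h, MonObj.one_comp]
  have h2 := congrArg (fun q => Groth.L25.DSPts.char q (Multiplicative.ofAdd (fun _ => (1 : ℤ)))) hp1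
  simp only [p, Groth.L25.DSPts.char_pt, Groth.L25.DSPts.char_one, MonoidHom.one_apply] at h2
  change (Scheme.ΓSpecIso (CommRingCat.of k)).inv ((Units.mk0 ζ hζ0 ^ (1 : ℤ) : kˣ) : k) = 1 at h2
  rw [zpow_one, Units.val_mk0] at h2
  have h3 : ζ = 1 := (ConcreteCategory.bijective_of_isIso (Scheme.ΓSpecIso (CommRingCat.of k)).inv).1
    (h2.trans (map_one _).symm)
  exact hζ.unique (h3 ▸ IsPrimitiveRoot.one)

end Groth.L19.AffSpec
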