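import Groth.Agent.L19.AffSpec.PowBirat
import Groth.Agent.L19.AffSpec.ResBound
import Groth.Agent.L19.AffSpec.Semicont
import Groth.Agent.L08.TorusWeights.Local
import Groth.Agent.L19.SpecSub.Derived
import Groth.Agent.L19.AlgGrpBasic.Points
import Groth.Agent.L26.AV.GroupSep

/-!
# Groups without subtori specialise

A connected group without subtori over a field has uniquely divisible points, so a power map is an automorphism of
its function field; a non-trivial torus in the special fibre would make the degree of this power map on the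
function field of the special component at least two, while the residue bound makes it one.
-/

set_option autoImplicit false
set_option backward.isDefEq.respectTransparency.types false
set_option linter.style.haveILetI false
set_option linter.unusedSectionVars false

universe u

open CategoryTheory CategoryTheory.Limits MonoidalCategory CartesianMonoidalCategory MonObj GrpObj AlgebraicGeometry
open Groth.L19.SpecSub Groth.L25.CentralLift Groth.L08.Borel

noncomputable section

namespace Groth.L19.AffSpec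

section Generic

variable {S : Scheme.{u}}

/-- power maps commute with homomorphisms -/
theorem pw_hom {G G' : Over S} [GrpObj G] [GrpObj G'] (f : G ⟶ G') [IsMonHom f] (n : ℕ) :
    pw G n ≫ f = f ≫ pw G' n := by
  show ((𝟙 G : G ⟶ G) ^ n) ≫ f = _
  rw [MonObj.pow_comp, Category.id_comp, comp_pow_id]

/-- power maps commute with base change -/
theorem pw_fst {G : Over S} [GrpObj G] {S' : Scheme.{u}} (g : S' ⟶ S) (n : ℕ) :
    (pw (Red.bc g G) n).left ≫ pullback.fst G.hom g = pullback.fst G.hom g ≫ (pw G n).left := by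
  have hmap : (Over.pullback g).map (pw G n) = pw (Red.bc g G) n := by
    show (Over.pullback g).homMonoidHom (pw G n) = _
    rw [map_pow]
    congr 1
    exact (Over.pullback g).map_id G
  rw [← hmap]
  exact Groth.Agent.NeronL.pb_map_fst _ _

/-- constants along a map -/
theorem stalkMap_cst {X Y : Scheme.{u}} {R R' : Type u} [CommRing R] [CommRing R'] (g : Y ⟶ X)
    (s : X ⟶ Spec (CommRingCat.of R)) (s' : Y ⟶ Spec (CommRingCat.of R')) (φ : R →+* R')
    (w : g ≫ s = s' ≫ Spec.map (CommRingCat.ofHom φ)) (y : Y) (c : R) :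
    g.stalkMap y (cstHom s (g y) c) = cstHom s' y (φ c) := by
  rw [cstHom_apply, cstHom_apply]
  refine (g.germ_stalkMap_apply ⊤ y trivial _).trans ?_
  have e := congrArg Scheme.Hom.appTop w
  rw [Scheme.Hom.comp_appTop, Scheme.Hom.comp_appTop] at e
  have e1 := ConcreteCategory.congr_hom e ((Scheme.ΓSpecIso (CommRingCat.of R)).inv c)
  have e2 := ConcreteCategory.congr_hom (Scheme.ΓSpecIso_inv_naturality (CommRingCat.ofHom φ)) c
  show Y.presheaf.germ ⊤ y trivial _ = _
  congr 1
  exact e1.trans (congrArg s'.appTop e2.symm)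

theorem specializes_cst {X : Scheme.{u}} {R : Type u} [CommRing R] (s : X ⟶ Spec (CommRingCat.of R)) {z x : X}
    (h : z ⤳ x) (c : R) : X.presheaf.stalkSpecializes h (cstHom s x c) = cstHom s z c := by
  rw [cstHom_apply, cstHom_apply]
  exact TopCat.Presheaf.germ_stalkSpecializes_apply _ _ _ _

end Generic

/-- identity component with its range -/
theorem exists_idComp' {k : Type u} [Field k] [IsAlgClosed k] (G : Over (Spec (CommRingCat.of k))) [GrpObj G]
    [LocallyOfFiniteType G.hom] :
    ∃ (C : Over (Spec (CommRingCat.of k))) (_ : GrpObj C) (R : Over (Spec (CommRingCat.of k))) (_ : GrpObj R)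
      (c : C ⟶ G) (j : R ⟶ C), IsMonHom c ∧ IsClosedImmersion c.left ∧ IsMonHom j ∧ IsClosedImmersion j.left ∧
      GeometricallyIrreducible C.hom ∧ UniversallyOpen C.hom ∧ Smooth R.hom ∧ ConnectedSpace R.left ∧
      topologicalKrullDim R.left = topologicalKrullDim G.left ∧
      connectedComponent ((η[G] : 𝟙_ _ ⟶ G).left (IsLocalRing.closedPoint k)) ⊆ Set.range (j ≫ c).left := by
  obtain ⟨C, gC, c, hc, hcc, hcf, hr, hgi, -⟩ := Groth.Agent.S7520.result k G
  haveI : LocallyOfFiniteType C.hom := by rw [← Over.w c]; infer_instance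
  haveI : IsLocallyNoetherian G.left := LocallyOfFiniteType.isLocallyNoetherian G.hom
  haveI : IsOpenImmersion c.left := IsOpenImmersion.of_flat_of_mono c.left
  haveI : UniversallyOpen C.hom := inferInstance
  obtain ⟨R, gR, j, hj, hjc, hjs, hsurj, -⟩ := Groth.L08.Borel.exists_red_subgroup C
  let e : R.left ≃ₜ C.left :=
    (j.left.isEmbedding.toHomeomorph).trans
      ((Homeomorph.setCongr (Set.range_eq_univ.2 hsurj.surj)).trans (Homeomorph.Set.univ _))
  haveI : ConnectedSpace R.left := by
    haveI := connected_of_geomIrred C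
    exact e.symm.surjective.connectedSpace e.symm.continuous
  refine ⟨C, gC, R, gR, c, j, hc, hcc, hj, hjc, hgi, inferInstance, hjs, inferInstance, ?_, ?_⟩
  · rw [IsHomeomorph.topologicalKrullDim_eq _ e.isHomeomorph]
    refine le_antisymm c.left.isEmbedding.isInducing.topologicalKrullDim_le ?_
    rw [← (Groth.Agent.S5341.result k G).2 (c.left ((η[C] : 𝟙_ _ ⟶ C).left (IsLocalRing.closedPoint k)))]
    refine iInf_le_of_le ⟨c.left.opensRange, ⟨_, rfl⟩⟩ ?_
    exact le_of_eq (IsHomeomorph.topologicalKrullDim_eq _ c.left.isEmbedding.toHomeomorph.isHomeomorph).symm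
  · rw [← hr]
    rintro _ ⟨y, rfl⟩
    obtain ⟨z, rfl⟩ := hsurj.surj y
    exact ⟨z, rfl⟩

section Main

variable (V : Type u) [CommRing V] [IsDomain V] [ValuationRing V] (K : Type u) [Field K] [IsAlgClosed K] [Algebra V K]
  [IsFractionRing V K] [IsAlgClosed (IsLocalRing.ResidueField V)]
  (H : Over (Spec (CommRingCat.of V))) [GrpObj H] [Flat H.hom] [LocallyOfFinitePresentation H.hom]
  [QuasiCompact H.hom] [Smooth (Red.bc (genPtOf V K) H).hom] [ConnectedSpace (Red.bc (genPtOf V K) H).left]
  [IsAffine (Red.bc (genPtOf V K) H).left]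

/-- the generic fibre is at most as big as the special one -/
theorem dim_gen_le_special :
    topologicalKrullDim (Red.bc (genPtOf V K) H).left ≤ topologicalKrullDim (Red.bc (resClosed V) H).left := by
  let gp := genPtOf V K
  let r := resClosed V
  haveI : IsPreimmersion gp := IsPreimmersion.of_isLocalization (R := V) (S := K) (nonZeroDivisors V)
  haveI : IsClosedImmersion r := IsClosedImmersion.spec_of_surjective _ IsLocalRing.residue_surjective
  have hr : ∀ (F : Type u) [Field F] (g : Spec (CommRingCat.of F) ⟶ Spec (CommRingCat.of V)),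
      Set.range g = {g (IsLocalRing.closedPoint F)} := fun F _ g => by
    ext y
    refine ⟨?_, fun hy => ⟨_, hy.symm⟩⟩
    rintro ⟨x, rfl⟩
    rw [Subsingleton.elim x (IsLocalRing.closedPoint F)]
    rfl
  show topologicalKrullDim ↥(pullback H.hom gp) ≤ topologicalKrullDim ↥(pullback H.hom r)
  rw [dim_pullback gp H _ (hr _ gp), dim_pullback r H _ (hr _ r)]
  let s₀ := r (IsLocalRing.closedPoint (IsLocalRing.ResidueField V))
  obtain ⟨m, hm⟩ := Groth.Lead.GrpFibreDim.exists_nat H s₀
  show Groth.Lead.GrpFibreDim.dim H _ ≤ Groth.Lead.GrpFibreDim.dim H s₀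
  rw [hm]
  haveI : IsLocalHom (algebraMap V (IsLocalRing.ResidueField V)) :=
    IsLocalHom.of_surjective _ IsLocalRing.residue_surjective
  have hcl : IsLocalRing.closedPoint V = s₀ := (IsLocalRing.comap_closedPoint _).symm
  have htop := (IsLocalRing.closedPoint_mem_iff ⟨_, Groth.Lead.GrpFibreDim.isOpen_le H m⟩).1
    (show IsLocalRing.closedPoint V ∈ _ by rw [hcl]; exact hm.le)
  exact htop.ge (show gp (IsLocalRing.closedPoint K) ∈ (⊤ : TopologicalSpace.Opens _) from trivial)

/-- power maps are birational on the special component -/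
theorem surjective_endo_special (hns : Red.HasNoSubtorus K (Red.bc (genPtOf V K) H))
    (R : Over (Spec (CommRingCat.of (IsLocalRing.ResidueField V)))) [GrpObj R] [Smooth R.hom] [ConnectedSpace R.left]
    (ρ₀ : R ⟶ Red.bc (resClosed V) H) [IsMonHom ρ₀] [IsClosedImmersion ρ₀.left]
    (hdim : topologicalKrullDim R.left = topologicalKrullDim (Red.bc (resClosed V) H).left)
    (n : ℕ) (hn : (n : IsLocalRing.ResidueField V) ≠ 0) :
    haveI := isIntegral_group R
    Function.Surjective (endo (pw R n).left (genericPoint R.left) (pw_genericPoint R n hn)) := by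
  let k := IsLocalRing.ResidueField V
  let gp := genPtOf V K
  let r := resClosed V
  let GK := Red.bc gp H
  haveI : IsClosedImmersion r := IsClosedImmersion.spec_of_surjective _ IsLocalRing.residue_surjective
  haveI : IsClosedImmersion (pullback.fst H.hom r) := MorphismProperty.pullback_fst _ _ ‹IsClosedImmersion r›
  haveI := isIntegral_group R
  haveI := isIntegral_group GK
  have hnK : (n : K) ≠ 0 := fun h => hn (by
    have h1 : (n : V) = 0 := IsFractionRing.injective V K (by rw [map_natCast, map_zero]; exact h)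
    rw [← map_natCast (algebraMap V k), h1, map_zero])
  haveI : LocallyOfFiniteType GK.hom := inferInstance
  haveI : QuasiCompact GK.hom := MorphismProperty.pullback_snd _ _ ‹QuasiCompact H.hom›
  haveI : IsSeparated GK.hom := Groth.Agent.AV.isSeparated_of_grpObj _
  haveI := nilpotent_of_noSubtorus GK hns
  have hinj : Function.Injective fun g : 𝟙_ (Over (Spec (CommRingCat.of K))) ⟶ GK => g ^ n :=
    pow_injective_of_nilpotent fun g hg => eq_one_of_pow hns hnK g hg
  have hσK := endo_pw_surjective GK n hnK hinj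
  let ρ : R.left ⟶ H.left := ρ₀.left ≫ pullback.fst H.hom r
  let fK : GK.left ⟶ H.left := pullback.fst H.hom gp
  let ξR := genericPoint R.left
  let ξK := genericPoint GK.left
  let x := ρ ξR
  let z := fK ξK
  have wρ : (pw R n).left ≫ ρ = ρ ≫ (pw H n).left := by
    show (pw R n).left ≫ ρ₀.left ≫ pullback.fst H.hom r = _
    rw [← Category.assoc, ← Over.comp_left, pw_hom, Over.comp_left, Category.assoc, pw_fst, ← Category.assoc]
  have wK : (pw GK n).left ≫ fK = fK ≫ (pw H n).left := pw_fst gp n
  have hR := pw_genericPoint R n hn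
  have hK := pw_genericPoint GK n hnK
  have hx : (pw H n).left x = x := by
    show (ρ ≫ (pw H n).left) ξR = _
    rw [← wρ, Scheme.Hom.comp_apply, hR]
  have hz : (pw H n).left z = z := by
    show (fK ≫ (pw H n).left) ξK = _
    rw [← wK, Scheme.Hom.comp_apply, hK]
  have hzx : z ⤳ x := by
    have hb : gp (IsLocalRing.closedPoint K) ⤳ H.hom x := by
      refine (PrimeSpectrum.le_iff_specializes _ _).1 fun v hv => ?_
      have h0 : algebraMap V K v = 0 := by
        have : algebraMap V K v ∈ IsLocalRing.maximalIdeal K := hv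
        rwa [IsLocalRing.maximalIdeal_eq_bot, Ideal.mem_bot] at this
      rw [IsFractionRing.injective V K (h0.trans (map_zero _).symm)]
      exact Ideal.zero_mem _
    obtain ⟨z', h1, h2⟩ := Flat.generalizingMap H.hom hb
    obtain ⟨y, rfl⟩ : z' ∈ Set.range fK := by
      rw [show Set.range fK = H.hom ⁻¹' Set.range gp from Scheme.Pullback.range_fst H.hom gp]
      exact ⟨_, h2.symm⟩
    exact (((genericPoint_spec GK.left).specializes trivial).map fK.continuous).trans h1
  let L := GK.left.functionField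
  let κ := R.left.functionField
  letI : Algebra K L := (cstHom GK.hom ξK).toAlgebra
  letI : Algebra k κ := (cstHom R.hom ξR).toAlgebra
  let e : H.left.presheaf.stalk x →+* L := (H.left.presheaf.stalkSpecializes hzx ≫ fK.stalkMap ξK).hom
  let ev : H.left.presheaf.stalk x →+* κ := (ρ.stalkMap ξR).hom
  have hevs : Function.Surjective ev := ρ.stalkMap_surjective _
  have hker : ∀ a, e a = 0 → ev a = 0 := fun a ha => by
    by_contra hn'
    have : IsUnit a := by
      by_contra hu
      haveI hmax : (RingHom.ker ev).IsMaximal := RingHom.ker_isMaximal_of_surjective ev hevs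
      exact hn' ((IsLocalRing.eq_maximalIdeal hmax).symm ▸ (IsLocalRing.mem_maximalIdeal a).2 hu :
        a ∈ RingHom.ker ev)
    exact not_isUnit_zero (ha ▸ this.map e)
  have he : ∀ v, e (cstHom H.hom x v) = algebraMap K L (algebraMap V K v) := fun v => by
    show fK.stalkMap ξK (H.left.presheaf.stalkSpecializes hzx (cstHom H.hom x v)) = _
    rw [specializes_cst]
    exact stalkMap_cst fK H.hom GK.hom (algebraMap V K) pullback.condition ξK v
  have hev : ∀ v, ev (cstHom H.hom x v) = algebraMap k κ (algebraMap V k v) := fun v => by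
    refine stalkMap_cst ρ H.hom R.hom (algebraMap V k) ?_ ξR v
    show (ρ₀.left ≫ pullback.fst H.hom r) ≫ H.hom = _
    rw [Category.assoc, pullback.condition, ← Category.assoc]
    congr 1
    exact Over.w ρ₀
  obtain ⟨hessL, dL, hdL, htrL⟩ := functionField_props GK.hom
  obtain ⟨-, d, hdR, htrR⟩ := functionField_props R.hom
  haveI := hessL
  have hle : dL ≤ d := by
    have h := dim_gen_le_special V K H
    rw [← hdim, hdR, hdL] at h
    exact_mod_cast h
  let σ : L →ₐ[K] L :=
    { (endo (pw GK n).left ξK hK).hom with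
      commutes' := fun c => endo_cst GK.hom (pw GK n).left (Over.w (pw GK n)) ξK hK c }
  let τ : κ →ₐ[k] κ :=
    { (endo (pw R n).left ξR hR).hom with
      commutes' := fun c => endo_cst R.hom (pw R n).left (Over.w (pw R n)) ξR hR c }
  exact surjective_of_lift (cstHom H.hom x) (algebraMap V k) e ev he hev hker hevs
    (endo (pw H n).left x hx).hom σ hσK τ
    (fun a => by
      show fK.stalkMap ξK (H.left.presheaf.stalkSpecializes hzx (endo _ x hx a)) = _
      rw [endo_specializes _ hzx hz hx]
      exact endo_stalkMap _ _ fK wK ξK hK hz _)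
    (fun a => endo_stalkMap _ _ ρ wρ ξR hR hx a)
    (le_of_eq htrR.symm) (htrL.le.trans (by exact_mod_cast hle))

/-- **The special component of a group without subtori has no subtori.** -/
theorem noSubtorus_special (hns : Red.HasNoSubtorus K (Red.bc (genPtOf V K) H))
    (R' : Over (Spec (CommRingCat.of (IsLocalRing.ResidueField V)))) [GrpObj R'] (i : R' ⟶ Red.bc (resClosed V) H)
    [IsMonHom i] [Mono i] : Red.HasNoSubtorus (IsLocalRing.ResidueField V) R' := by
  intro T _ jT _ _ hT
  by_contra hnt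
  let k := IsLocalRing.ResidueField V
  let gp := genPtOf V K
  let r := resClosed V
  let Hk := Red.bc r H
  haveI : QuasiCompact Hk.hom := MorphismProperty.pullback_snd _ _ ‹QuasiCompact H.hom›
  haveI : LocallyOfFiniteType Hk.hom := MorphismProperty.pullback_snd _ _ inferInstance
  haveI : IsSeparated Hk.hom := Groth.Agent.AV.isSeparated_of_grpObj _
  obtain ⟨C, _, R, _, c, jR, hc, hcc, hjR, hjRc, hgi, huo, hsm, hconn, hdim, hrange⟩ := exists_idComp' Hk
  haveI : Mono c := Over.mono_of_mono_left c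
  haveI : Mono jR := Over.mono_of_mono_left jR
  haveI : IsClosedImmersion (jR ≫ c).left := by rw [Over.comp_left]; infer_instance
  haveI : QuasiCompact R.hom := by rw [← Over.w (jR ≫ c)]; infer_instance
  haveI : IsSeparated R.hom := Groth.Agent.AV.isSeparated_of_grpObj _
  obtain ⟨hTaff, hTsm, hTc, -, -⟩ := torus_props hT
  haveI : IsReduced T.left := Groth.Agent.AV.isReduced_of_smooth_field T.hom
  obtain ⟨f, hf⟩ := Groth.L19.AlgGrpBasic.exists_lift_of_range (jR ≫ c) (jT ≫ i) (by
    refine (IsPreconnected.subset_connectedComponent (isPreconnected_range (jT ≫ i).left.continuous) ?_).trans hrange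
    refine ⟨(η[T] : 𝟙_ _ ⟶ T).left (IsLocalRing.closedPoint k), ?_⟩
    rw [← Scheme.Hom.comp_apply, ← Over.comp_left, IsMonHom.one_hom])
  haveI : IsMonHom f := isMonHom_of_comp_mono f (jR ≫ c) (jT ≫ i) hf
  haveI : Mono f := by haveI : Mono (f ≫ jR ≫ c) := hf.symm ▸ inferInstance; exact mono_of_mono f (jR ≫ c)
  -- nilpotency
  let GK := Red.bc gp H
  haveI : QuasiCompact GK.hom := MorphismProperty.pullback_snd _ _ ‹QuasiCompact H.hom›
  haveI := nilpotent_of_noSubtorus GK hns
  have hnilK : AGF.IsNilpotentGrp GK := by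
    obtain ⟨e⟩ : Nonempty ((Groth.L08.TorusQuot.SP K K) ≅ 𝟙_ (Over (Spec (CommRingCat.of K)))) :=
      ⟨exists_unit_iso.choose⟩
    refine isNilpotentGrp_of_points GK ?_
    let φ : (Groth.L08.TorusQuot.SP K K ⟶ GK) →* (𝟙_ (Over (Spec (CommRingCat.of K))) ⟶ GK) :=
      MonoidHom.mk' (fun a => e.inv ≫ a) fun a b => MonObj.comp_mul _ a b
    exact Group.nilpotent_of_mulEquiv (MonoidHom.ofInjective (f := φ) fun a b h => (cancel_epi e.inv).1 h).symm
  have hnilC : AGF.IsNilpotentGrp C :=
    specialisable_nilp.spec V K k r H ‹Flat H.hom› (inferInstanceAs (IsSeparated Hk.hom)) C c hc inferInstance hgi huo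
      hnilK
  obtain ⟨m, hm⟩ := specialisable_nilp.mono jR hjR inferInstance hnilC
  have hnilR : Group.IsNilpotent (𝟙_ (Over (Spec (CommRingCat.of k))) ⟶ R) := ⟨⟨m, hm _⟩⟩
  -- the torsion point
  obtain ⟨n, hn, hn1⟩ : ∃ n : ℕ, (n : k) ≠ 0 ∧ n ≠ 1 := by
    by_cases h2 : (2 : k) = 0
    · refine ⟨3, fun h3 => one_ne_zero (α := k) ?_, by omega⟩
      push_cast at h3
      linear_combination h3 - h2
    · exact ⟨2, by simpa using h2, by omega⟩
  obtain ⟨t, htn, ht1⟩ := exists_torsion_of_torus hT hnt hn hn1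
  let a : R ⟶ R := toUnit R ≫ t ≫ f
  have han : a ^ n = 1 := by
    show (toUnit R ≫ t ≫ f) ^ n = 1
    rw [← MonObj.comp_pow, ← MonObj.pow_comp, htn, MonObj.one_comp, MonObj.comp_one]
  have hcomm : Commute a (𝟙 R) := by
    show (toUnit R ≫ t ≫ f) * 𝟙 R = 𝟙 R * (toUnit R ≫ t ≫ f)
    rw [← Category.assoc]
    exact central_of_nilpotent hnilR T f hT R (toUnit R ≫ t) (𝟙 R)
  let τ : R ⟶ R := a * 𝟙 R
  have hτpw : τ ≫ pw R n = pw R n := by
    rw [comp_pow_id, hcomm.mul_pow, han, _root_.one_mul]
  have hinv : ∀ b c : 𝟙_ (Over (Spec (CommRingCat.of k))) ⟶ R,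
      ((toUnit R ≫ b) * 𝟙 R) ≫ ((toUnit R ≫ c) * 𝟙 R) = (toUnit R ≫ c) * ((toUnit R ≫ b) * 𝟙 R) := fun b c => by
    rw [MonObj.comp_mul, Category.comp_id, ← Category.assoc, toUnit_unique (_ ≫ toUnit R) (toUnit R)]
  haveI : IsIso τ := ⟨(toUnit R ≫ (t ≫ f)⁻¹) * 𝟙 R, by
    show ((toUnit R ≫ t ≫ f) * 𝟙 R) ≫ _ = _
    rw [hinv, GrpObj.comp_inv, ← _root_.mul_assoc, inv_mul_cancel, _root_.one_mul], by
    show _ ≫ ((toUnit R ≫ t ≫ f) * 𝟙 R) = _
    rw [hinv, GrpObj.comp_inv, ← _root_.mul_assoc, mul_inv_cancel, _root_.one_mul]⟩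
  haveI := isIntegral_group R
  haveI : IsIso τ.left := inferInstanceAs (IsIso ((Over.forget _).map τ))
  have hgenτ : τ.left (genericPoint R.left) = genericPoint R.left := by
    let h : R.left ≃ₜ R.left := Scheme.homeoOfIso (asIso τ.left)
    have h1 := (genericPoint_spec R.left).image h.continuous
    rw [Set.image_univ, h.surjective.range_eq, closure_univ] at h1
    exact h1.eq (genericPoint_spec R.left)
  have hs := surjective_endo_special V K H hns R (jR ≫ c) hdim n hn
  have hτ1 : τ.left = 𝟙 R.left := by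
    refine eq_id_of_endo R.hom τ.left (Over.w τ) hgenτ fun q => ?_
    obtain ⟨q, rfl⟩ := hs q
    have hp := pw_genericPoint R n hn
    rw [← endo_comp τ.left (pw R n).left _ hgenτ hp]
    exact endo_congr (congrArg CommaMorphism.left hτpw) _ _ _ q
  have hτ : τ = 𝟙 R := Over.OverMorphism.ext hτ1
  have ha1 : a = 1 := mul_eq_right.1 hτ
  refine ht1 ?_
  have h1 : t ≫ f = 1 := by
    have h2 := congrArg (η[R] ≫ ·) ha1
    simp only [a, ← Category.assoc, toUnit_unique (η[R] ≫ toUnit R) (𝟙 _), Category.id_comp, MonObj.comp_one] at h2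
    exact h2
  exact (cancel_mono f).1 (h1.trans (MonObj.one_comp f).symm)

end Main

end Groth.L19.AffSpec

namespace Groth.L19.AffSpec

/-- no subtori -/
def QNoSub : GPred.{u} := fun B H _ =>
  ∀ (T : Over B) [GrpObj T] (j : T ⟶ H) [IsMonHom j] [Mono j], Red.IsTorus T → Red.IsTrivialGrp T

theorem noSubtorus_mono {B : Scheme.{u}} {H H' : Over B} [GrpObj H] [GrpObj H'] (a : H' ⟶ H) [IsMonHom a] [Mono a]
    (h : QNoSub H) : QNoSub H' := fun T _ j _ _ hT => h T (j ≫ a) hT

/-- absence of subtori is invariant under isomorphisms of the base -/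
theorem noSubtorus_bc_iso {B B' : Scheme.{u}} (g : B' ⟶ B) [IsIso g] (U : Over B) [GrpObj U] (h : QNoSub U) :
    QNoSub (Red.bc g U) := by
  intro T' _ j _ _ hT'
  let f : Red.bc (inv g) (Red.bc g U) ⟶ U :=
    (Groth.L25.LimHom.cmp (IsIso.inv_hom_id g) U).hom ≫ (Over.pullbackId (X := B)).hom.app U
  haveI := Groth.L25.LimHom.isMonHom_cmp (IsIso.inv_hom_id g) U
  haveI : IsMonHom (M := Red.bc (𝟙 B) U) (N := U) ((Over.pullbackId (X := B)).hom.app U) :=
    Groth.L08.TorusWeights.isMonHom_bcId U
  haveI : IsMonHom f := inferInstanceAs (IsMonHom (_ ≫ _))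
  haveI : IsIso f := inferInstanceAs (IsIso (_ ≫ _))
  haveI : IsMonHom ((Over.pullback (inv g)).map j) := Groth.L25.MonoClosed.isMonHom_pullbackMap _ _
  haveI : Mono ((Over.pullback (inv g)).map j) := Functor.map_mono _ _
  have h0 : IsIso (pullback.snd T'.hom (inv g)) :=
    h (Red.bc (inv g) T') ((Over.pullback (inv g)).map j ≫ f) (Groth.L25.Locus.isTorus_bc hT' (inv g))
  show IsIso T'.hom
  haveI : IsIso (pullback.fst T'.hom (inv g) ≫ T'.hom) := by rw [pullback.condition]; infer_instance
  exact IsIso.of_isIso_comp_left (pullback.fst T'.hom (inv g)) T'.hom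

theorem specAff_noSub : SpecAff QNoSub.{u} := by
  refine ⟨fun a ha hm h => @noSubtorus_mono _ _ _ _ _ a ha hm h, fun φ hφ H _ h => ?_, ?_⟩
  · haveI : IsIso (CommRingCat.ofHom φ) := (ConcreteCategory.isIso_iff_bijective _).2 hφ
    exact noSubtorus_bc_iso _ H h
  · intro V _ _ _ K _ _ _ _ _ H _ hfl hlfp hqc _ hsK hcK haK C _ c hc hm _ _ _ R _ jR hjR hjRc _ _ _ hq
    haveI := hfl; haveI := hlfp; haveI := hqc; haveI := hsK; haveI := hcK; haveI := haK
    haveI : Mono jR := Over.mono_of_mono_left jR
    exact noSubtorus_special V K H hq R (jR ≫ c)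

theorem SpecAff.and {P Q : GPred.{u}} (hP : SpecAff P) (hQ : SpecAff Q) : SpecAff fun _ H _ => P H ∧ Q H :=
  ⟨fun a ha hm h => ⟨hP.mono a ha hm h.1, hQ.mono a ha hm h.2⟩,
    fun φ hφ H _ h => ⟨hP.bc φ hφ H h.1, hQ.bc φ hφ H h.2⟩,
    fun V _ _ _ K _ _ _ _ _ H _ a1 a2 a3 a4 a5 a6 a7 C _ c b1 b2 b3 b4 b5 R _ jR c1 c2 c3 c4 c5 h =>
      ⟨hP.spec V K H a1 a2 a3 a4 a5 a6 a7 C c b1 b2 b3 b4 b5 R jR c1 c2 c3 c4 c5 h.1,
        hQ.spec V K H a1 a2 a3 a4 a5 a6 a7 C c b1 b2 b3 b4 b5 R jR c1 c2 c3 c4 c5 h.2⟩⟩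

end Groth.L19.AffSpec
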